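import Cfsg.Agent.MQ.Pc

/-! Simple groups with a self-centralizing Sylow subgroup of prime order and automizer two. -/

set_option autoImplicit false
set_option linter.unusedSectionVars false
set_option linter.unusedVariables false

namespace IX
open Cfsg H8 H2 Subgroup MQ

variable {G : Type*} [Group G] [Fintype G] [IsSimpleGroup G] {p : ℕ} [hp : Fact p.Prime]
  {z t u w : G} {h : DefOne p z}

/-- the standing hypotheses -/
structure Hy (h : DefOne p z) : Prop where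
  nc : ¬ IsMulCommutative G
  p2 : p ≠ 2
  hV : h.V = ⊥
  he : Nat.card h.H = 2

namespace Hy
variable (H : Hy h) (T : Gen h 1)
include H

theorem perf : _root_.commutator G = ⊤ := commutator_eq_top_of_simple H.nc

theorem cardV : Nat.card h.V = 1 := by rw [H.hV, card_bot]

theorem cz : Nat.card (Cx z) = p := by rw [h.card_Cx, H.cardV, mul_one]

theorem sy : T.s0 = -T.s 0 ∧ (deg T.E : ℤ) = deg (T.c 0) + T.s 0 := by
  have s2 := T.sum_deg
  rw [Fin.sum_univ_one] at s2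
  unfold Gen.q Gen.q0 at s2
  have p1 := deg_pos (T.c 0)
  have p2 := deg_pos T.E
  rcases T.s_eq 0 with e | e <;> rcases T.s0_eq with e' | e' <;> rw [e, e'] at s2 <;>
    rw [e, e'] <;> omega

theorem valE (hu : ¬ p ∣ orderOf u) : T.E.1 u = (T.c 0).1 u + T.s 0 := by
  have := T.lin u hu
  rw [Fin.sum_univ_one, (H.sy T).1] at this
  rcases T.s_eq 0 with e | e <;> rw [e] at this ⊢ <;> push_cast at this ⊢
  · linear_combination -this
  · linear_combination this

theorem key (hu : ¬ p ∣ orderOf u) (hw : ¬ p ∣ orderOf w) :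
    (prs h u w : ℂ) * (Nat.card G * deg (T.c 0) * deg T.E) = (Cx u).index * (Cx w).index *
      ((deg (T.c 0) - (T.c 0).1 u) * (deg (T.c 0) - (T.c 0).1 w)) := by
  have e := T.prs_eq hu hw
  rw [Fin.sum_univ_one, H.valE T hu, H.valE T hw, (H.sy T).1, H.cardV] at e
  have hy : (deg T.E : ℂ) = deg (T.c 0) + T.s 0 := by exact_mod_cast (H.sy T).2
  have g0 := card_ne_zero_complex (G := G)
  have x0 : (deg (T.c 0) : ℂ) ≠ 0 := by exact_mod_cast (deg_pos _).ne'
  have y0 : (deg T.E : ℂ) ≠ 0 := by exact_mod_cast (deg_pos _).ne'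
  have ss : (T.s 0 : ℂ) * T.s 0 = 1 := by exact_mod_cast sgn_sq (T.s_eq 0)
  rw [e]
  push_cast
  field_simp
  rw [hy]
  generalize (T.c 0).1 u = a
  generalize (T.c 0).1 w = b
  generalize (deg (T.c 0) : ℂ) = x
  generalize (T.s 0 : ℂ) = s at ss ⊢
  linear_combination ((Cx u).index * (Cx w).index : ℂ) * (a * b - x * (a + b + s)) * ss

theorem reg2 (ht : orderOf t = 2) : ¬ p ∣ orderOf t := fun e =>
  H.p2 ((Nat.prime_dvd_prime_iff_eq hp.out Nat.prime_two).1 (ht ▸ e))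

theorem idx : (Cx z).index * p = Nat.card G := by rw [← H.cz, index_mul_card]

theorem xy_dvd : deg (T.c 0) * deg T.E ∣ (Cx z).index := by
  refine Nat.Coprime.mul_dvd_of_dvd_of_dvd ?_ (T.dvd 0) T.dvd0
  have := (H.sy T).2
  rcases T.s_eq 0 with e | e <;> rw [e] at this
  · rw [show deg T.E = deg (T.c 0) + 1 by omega]; simp
  · rw [show deg (T.c 0) = deg T.E + 1 by omega]; simp

theorem inv1 (ht : orderOf t = 2) : kk h t = 1 ∧ ∃ a : ℤ, (T.c 0).1 t = a ∧
    4 ∣ a - deg (T.c 0) ∧ |a| < deg (T.c 0) ∧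
    (p * (Nat.card G * deg (T.c 0) * deg T.E) : ℤ) = ((Cx t).index * (deg (T.c 0) - a)) ^ 2 := by
  have t2 : t ^ 2 = 1 := ht ▸ pow_orderOf_eq_one t
  have t1 : t ≠ 1 := by rintro rfl; simp at ht
  obtain ⟨a, a1, a2⟩ := inv_val H.perf (T.c 0) t2
  have a3 := irr_int_abs_lt H.nc (T.ne_one 0) t1 a1
  have e := H.key T (H.reg2 ht) (H.reg2 ht)
  rw [prs_kk h H.p2 t2 t2, a1] at e
  have e' : ((p * kk h t * kk h t : ℕ) * (Nat.card G * deg (T.c 0) * deg T.E) : ℤ) =
      (Cx t).index * (Cx t).index * ((deg (T.c 0) - a) * (deg (T.c 0) - a)) := by exact_mod_cast e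
  have k1 := H.cardV ▸ kk_le h t
  have i0 : 0 < (Cx t).index := Nat.pos_of_ne_zero index_ne_zero_of_finite
  have a4 := abs_lt.1 a3
  have k : kk h t = 1 := by
    by_contra k
    rw [show kk h t = 0 by omega] at e'
    have : (0 : ℤ) < (Cx t).index * (Cx t).index * ((deg (T.c 0) - a) * (deg (T.c 0) - a)) :=
      mul_pos (by positivity) (mul_pos (by omega) (by omega))
    rw [← e'] at this; simp at this
  refine ⟨k, a, a1, a2, a3, ?_⟩
  rw [k] at e'
  push_cast at e'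
  linear_combination e'

/-- every involution has a conjugate inverting `z` -/
theorem exists_inv (ht : orderOf t = 2) : ∃ a, IsConj t a ∧ a * z * a⁻¹ = z⁻¹ := by
  obtain ⟨T⟩ := exists_gen h (n := 1) H.he
  by_contra k
  have := kk_zero h (u := t) fun a ha e => k ⟨a, ha, e⟩
  have := (H.inv1 T ht).1
  omega

/-- all involutions are conjugate -/
theorem conj (ht : orderOf t = 2) (hw : orderOf w = 2) : IsConj t w := by
  obtain ⟨a, a1, a2⟩ := H.exists_inv ht
  obtain ⟨b, b1, b2⟩ := H.exists_inv hw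
  obtain ⟨v, hv, e⟩ := h.exists_decomp (mul_mem_Cx b2 a2)
  rw [H.hV, mem_bot] at hv
  rw [hv, mul_one] at e
  have aa : a * a = 1 := by
    obtain ⟨c, rfl⟩ := isConj_iff.1 a1
    rw [← sq, conj_pow, ← ht, pow_orderOf_eq_one]; simp
  have : xp z (h.kap (b * a)) * a = b := by rw [← e, mul_assoc, aa, mul_one]
  exact (this ▸ (Iv_mul h H.p2 ⟨a1, a2⟩ _).1).trans b1.symm

/-- the order formula -/
theorem exists_k : ∃ k : ℕ, 0 < k ∧ Nat.card G = p * (deg (T.c 0) * deg T.E) * k ^ 2 ∧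
    ∀ t : G, orderOf t = 2 → ∀ a : ℤ, (T.c 0).1 t = a →
      (Nat.card (Cx t) : ℤ) = k * (deg (T.c 0) - a) ∧
      ((Cx t).index * (deg (T.c 0) - a) : ℤ) = p * (deg (T.c 0) * deg T.E) * k := by
  obtain ⟨m, hm⟩ := H.xy_dvd T
  have hg : Nat.card G = p * (deg (T.c 0) * deg T.E) * m := by rw [← H.idx, hm]; ring
  have ev : 2 ∣ Nat.card G := (H.he ▸ h.card_eq ▸ (by
    rw [H.he]; exact ⟨(Nx z).index * p * Nat.card h.V, by ring⟩) : 2 ∣ Nat.card G)
  obtain ⟨t0, ht0⟩ := exists_prime_orderOf_dvd_card' (G := G) 2 ev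
  have pp := hp.out.pos
  have x0 := deg_pos (T.c 0)
  have y0 := deg_pos T.E
  have n0 : (0 : ℤ) < p * (deg (T.c 0) * deg T.E) := by positivity
  have k1 : ∀ t : G, orderOf t = 2 → ∀ a : ℤ, (T.c 0).1 t = a → 0 < deg (T.c 0) - a ∧
      (p * (deg (T.c 0) * deg T.E) : ℤ) ^ 2 * m = ((Cx t).index * (deg (T.c 0) - a)) ^ 2 :=
    fun t ht a ha => by
      obtain ⟨-, b, b1, -, b3, e⟩ := H.inv1 T ht
      obtain rfl : b = a := by rw [b1] at ha; exact_mod_cast ha
      refine ⟨by have := abs_lt.1 b3; omega, ?_⟩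
      rw [← e, hg]; push_cast; ring
  obtain ⟨-, a0, b1, -⟩ := H.inv1 T ht0
  obtain ⟨c1, c2⟩ := k1 t0 ht0 a0 b1
  obtain ⟨k, hk⟩ := (Int.pow_dvd_pow_iff two_ne_zero).1 (Dvd.intro _ c2)
  have hmk : (m : ℤ) = k ^ 2 := by
    rw [hk] at c2
    exact mul_left_cancel₀ (pow_ne_zero 2 n0.ne') (c2.trans (mul_pow _ _ _))
  have m0 : 0 < m := Nat.pos_of_ne_zero fun e => by
    rw [e, mul_zero] at hg; exact Nat.card_pos.ne' hg
  have hmk' : m = k.natAbs ^ 2 := by
    have : (m : ℤ) = (k.natAbs ^ 2 : ℕ) := by rw [hmk]; push_cast; rw [sq_abs]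
    exact_mod_cast this
  have kp : 0 < k.natAbs := Nat.pos_of_ne_zero fun e => by rw [e] at hmk'; omega
  refine ⟨k.natAbs, kp, hmk' ▸ hg, fun t ht a ha => ?_⟩
  obtain ⟨d1, d2⟩ := k1 t ht a ha
  have i0 : 0 < (Cx t).index := Nat.pos_of_ne_zero index_ne_zero_of_finite
  have e : ((Cx t).index * (deg (T.c 0) - a) : ℤ) = p * (deg (T.c 0) * deg T.E) * k.natAbs := by
    refine (pow_left_inj₀ (by positivity) (by positivity) two_ne_zero).1 ?_
    rw [← d2, hmk']; push_cast; ring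
  refine ⟨mul_left_cancel₀ n0.ne' (mul_right_cancel₀ (b := (k.natAbs : ℤ)) (by omega) ?_), e⟩
  have c0 : (Nat.card (Cx t) : ℤ) * (Cx t).index = p * (deg (T.c 0) * deg T.E) * k.natAbs ^ 2 := by
    have := (Cx t).card_mul_index
    rw [hg, hmk'] at this
    exact_mod_cast this
  linear_combination (deg (T.c 0) - a) * c0 - Nat.card (Cx t) * e

/-- values and centralizer orders of `p`-regular elements -/
theorem reg {k : ℕ} (hk : 0 < k) (hg : Nat.card G = p * (deg (T.c 0) * deg T.E) * k ^ 2)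
    (hu : ¬ p ∣ orderOf u) (u1 : u ≠ 1) : ∃ a : ℤ, (T.c 0).1 u = a ∧ T.E.1 u = (a + T.s 0 : ℤ) ∧
      |a| < deg (T.c 0) ∧ (Nat.card (Cx u) : ℤ) ∣ k * (deg (T.c 0) - a) ∧
      1 + a * a + ((p - 1) / 2 : ℕ) * ((a + T.s 0) * (a + T.s 0)) ≤ Nat.card (Cx u) := by
  obtain ⟨k', hk', hg', K⟩ := H.exists_k T
  have pp := hp.out.pos
  have x0 := deg_pos (T.c 0)
  have y0 := deg_pos T.E
  obtain rfl : k' = k := by
    rw [hg] at hg'
    exact ((pow_left_inj₀ (by omega) (by omega) two_ne_zero).1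
      (Nat.eq_of_mul_eq_mul_left (by positivity) hg')).symm
  have ev : 2 ∣ Nat.card G := (H.he ▸ h.card_eq ▸ (by
    rw [H.he]; exact ⟨(Nx z).index * p * Nat.card h.V, by ring⟩) : 2 ∣ Nat.card G)
  obtain ⟨t, ht⟩ := exists_prime_orderOf_dvd_card' (G := G) 2 ev
  obtain ⟨-, b, b1, -⟩ := H.inv1 T ht
  have e0 : ((Cx t).index * (deg (T.c 0) - b) : ℂ) = p * (deg (T.c 0) * deg T.E) * k' := by
    exact_mod_cast (K t ht b b1).2
  have e1 := H.key T (H.reg2 ht) hu
  have e2 := H.key T hu hu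
  rw [b1, hg] at e1
  rw [hg] at e2
  push_cast at e1 e2
  have n0 : (p * (deg (T.c 0) * deg T.E) * k' : ℂ) ≠ 0 := by
    exact_mod_cast (by positivity : p * (deg (T.c 0) * deg T.E) * k' ≠ 0)
  have i0 : (Cx u).index ≠ 0 := index_ne_zero_of_finite
  have e3 : (prs h t u * (deg (T.c 0) * deg T.E * k') : ℂ) =
      (Cx u).index * (deg (T.c 0) - (T.c 0).1 u) := mul_left_cancel₀ n0 (by
    linear_combination e1 + (Cx u).index * (deg (T.c 0) - (T.c 0).1 u) * e0)
  obtain ⟨a, ha⟩ := exists_int_of_mul (char_isIntegral (irr_isCharacter (T.c 0).2) u)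
    (m := (Cx u).index) (a := (Cx u).index * deg (T.c 0) - prs h t u * (deg (T.c 0) * deg T.E * k'))
    (by exact_mod_cast i0) (by push_cast; linear_combination e3)
  have hE : T.E.1 u = (a + T.s 0 : ℤ) := by rw [H.valE T hu, ha]; push_cast; rfl
  refine ⟨a, ha, hE, irr_int_abs_lt H.nc (T.ne_one 0) u1 ha, ?_, ?_⟩
  · have n1 : (deg (T.c 0) * deg T.E * k' : ℂ) ^ 2 ≠ 0 := by
      exact_mod_cast (by positivity : (deg (T.c 0) * deg T.E * k') ^ 2 ≠ 0)
    have e4 : (prs h u u * p : ℂ) = prs h t u ^ 2 := mul_right_cancel₀ n1 (by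
      linear_combination e2 - ((Cx u).index * (deg (T.c 0) - (T.c 0).1 u) +
        prs h t u * (deg (T.c 0) * deg T.E * k')) * e3)
    have e5 : prs h u u * p = prs h t u ^ 2 := by exact_mod_cast e4
    obtain ⟨r, hr⟩ := hp.out.dvd_of_dvd_pow (Dvd.intro_left _ e5)
    rw [ha, hr] at e3
    have c0 : (Nat.card (Cx u) : ℂ) * (Cx u).index = p * (deg (T.c 0) * deg T.E) * k' ^ 2 := by
      have := (Cx u).card_mul_index
      rw [hg] at this
      exact_mod_cast this
    have : (k' * (deg (T.c 0) - a) : ℂ) = Nat.card (Cx u) * r := mul_left_cancel₀ n0 (by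
      push_cast at e3
      linear_combination -(Nat.card (Cx u) : ℂ) * e3 - (deg (T.c 0) - a) * c0)
    exact ⟨r, by exact_mod_cast this⟩
  · have q := T.sq_le hu (a := fun _ => a) (fun j => by rwa [Subsingleton.elim j 0]) hE
    rw [Fin.sum_univ_one] at q
    have := T.cardX
    rwa [show (p - 1) / 2 = T.X.card by omega]

end Hy
end IX
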