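import Cfsg.Agent.MQ.Pc

/-! Simple groups with a self-centralizing Sylow subgroup of order `p` and automizer 2:
the numerical data. -/

set_option autoImplicit false

namespace IX
open Cfsg H8 H2 Subgroup

open Classical in
/-- The data of the principal `p`-block `{1, χ, θ_i}`: `x = χ 1`, `y = θ 1`, `α = χ`. -/
structure Dt (G : Type*) [Group G] [Fintype G] (p x y w k : ℕ) (s : ℤ) (t : G) (α : G → ℤ) :
    Prop where
  pp : p.Prime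
  p5 : 5 ≤ p
  hs : s = 1 ∨ s = -1
  hy : (y : ℤ) = x + s
  x2 : 2 ≤ x
  y2 : 2 ≤ y
  px : (p : ℤ) ∣ x - s
  card : Nat.card G = p * x * y * k ^ 2
  np : ¬ p ∣ x * y * k
  pk : (p : ℤ) ∣ k ^ 2 - 1
  ot : orderOf t = 2
  cj : ∀ u : G, orderOf u = 2 → IsConj t u
  ct : Nat.card (Cx t) = k * w
  at' : α t = x - w
  w4 : 4 ∣ w
  fa : p * |α t| ≤ x + (p - 1) * s
  cls : ∀ u v : G, IsConj u v → α u = α v
  one : α 1 = x
  sing : ∀ u : G, p ∣ orderOf u → α u = s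
  lt : ∀ u : G, u ≠ 1 → ¬ p ∣ orderOf u → |α u| < x ∧ |α u + s| < y
  dv : ∀ u : G, u ≠ 1 → ¬ p ∣ orderOf u → (Nat.card (Cx u) : ℤ) ∣ k * (x - α u)
  cp : ∀ u : G, u ≠ 1 → ¬ p ∣ orderOf u → ¬ p ∣ Nat.card (Cx u)
  nm : ∀ u : G, u ≠ 1 → ¬ p ∣ orderOf u →
    2 + 2 * (α u * α u) + (p - 1) * ((α u + s) * (α u + s)) ≤ 2 * Nat.card (Cx u)
  om : ∀ u : G, ¬ p ∣ orderOf u →
    (x : ℤ) ∣ (Cx u).index * α u ∧ (y : ℤ) ∣ (Cx u).index * (α u + s)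
  pr : ∀ (u : G) (q : ℕ), q.Prime → q ≠ p → orderOf u = q → (q : ℤ) ∣ x - α u ∧
    (q - 1 : ℤ) * (x - α u) ≤ q * x ∧ (q - 1 : ℤ) * (x - α u) ≤ q * y
  sum : ∑ u ∈ Finset.univ.filter (fun u : G => u ≠ 1 ∧ ¬ p ∣ orderOf u), α u * (α u + s) =
    x * y * (k ^ 2 - 1)
  nrm : ∑ u : G, α u * α u = Nat.card G
  cnt : 2 * (Finset.univ.filter fun u : G => p ∣ orderOf u).card = (p - 1) * (x * y * k ^ 2)
  inv : ∀ u : G, p ∣ orderOf u →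
    (Finset.univ.filter fun a : G => orderOf a = 2 ∧ a * u * a⁻¹ = u⁻¹).card ≤ p

/-- The pairs `n, n + 1` of 7-smooth numbers. -/
def SP : List ℕ := [1, 2, 3, 4, 5, 6, 7, 8, 9, 14, 15, 20, 24, 27, 35, 48, 49, 63, 80, 125, 224,
  2400, 4374]

end IX
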