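import Cfsg.Agent.IX.Ch
import Cfsg.Agent.IX.Stmt
import Cfsg.Agent.H8.Few3

/-! The numerical data `Dt` of a simple group with a Sylow subgroup of order `p` that has index
two in its normaliser. -/

set_option autoImplicit false
set_option linter.unusedSectionVars false
set_option linter.unusedVariables false

namespace IX
open Cfsg H8 H2 Subgroup MQ ComplexConjugate

variable {G : Type*} [Group G] [Fintype G] [IsSimpleGroup G] {p : ℕ} [hp : Fact p.Prime]
  {z t u w : G} {h : DefOne p z}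

theorem val_pow_int {χ : G → ℂ} (hχ : IsCharacter G χ) {a : ℤ} (ha : χ u = a) {k : ℕ}
    (hk : k.Coprime (orderOf u)) : χ (u ^ k) = a := by
  obtain ⟨σ, hσ⟩ := exists_complex_aut (orderOf_pos u) hk
  obtain ⟨s, hs, -, h2⟩ := H8.char_exists_eigenvalues hχ u
  have h3 := h2 1
  have h4 := h2 k
  simp only [zpow_one, Multiset.map_id'] at h3
  rw [zpow_natCast] at h4
  rw [h4, ← map_intCast σ a, ← ha, h3, map_multiset_sum]
  congr 1
  exact Multiset.map_congr rfl fun z hz => by rw [zpow_natCast]; exact (hσ z (hs z hz)).symm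

theorem prime_bd (χ : IrrCharacter G) {q : ℕ} [hq : Fact q.Prime] (hu : orderOf u = q) {a : ℤ}
    (ha : χ.1 u = a) : 0 ≤ deg χ + (q - 1 : ℤ) * a := by
  obtain ⟨n, hn⟩ := exists_nat_sum_xp' (p := q) (x := u) (hu ▸ pow_orderOf_eq_one u)
    (irr_isCharacter χ.2)
  rw [sum_xp_const (F := fun i => χ.1 (xp u i)) (a := a) fun i hi => val_pow_int (irr_isCharacter χ.2) ha (hu ▸
    ((Nat.coprime_of_lt_prime (by rwa [Ne, ZMod.val_eq_zero]) i.val_lt hq.out).symm)), xp_zero,
    deg_eq] at hn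
  have : (deg χ + (q - 1) * a : ℤ) = q * n := by exact_mod_cast hn
  rw [this]; positivity

namespace Hy
variable (H : Hy h) (T : Gen h 1)
include H

theorem sing (hu : p ∣ orderOf u) : ∃ i : ZMod p, i ≠ 0 ∧ IsConj (xp z i) u := by
  obtain ⟨y, i, hi, v, hv, e⟩ := h.exists_conj_sing hu
  rw [H.hV, mem_bot] at hv
  rw [hv, mul_one] at e
  exact ⟨i, hi, isConj_iff.2 ⟨y, by rw [← e]; group⟩⟩

theorem val_sing (hu : p ∣ orderOf u) : (T.c 0).1 u = T.s 0 := by
  obtain ⟨i, hi, c⟩ := H.sing hu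
  rw [val_conj _ c, T.val' 0 hi]

theorem exists_int (u : G) : ∃ a : ℤ, (T.c 0).1 u = a := by
  obtain ⟨k, hk, hg, -⟩ := H.exists_k T
  by_cases hu : p ∣ orderOf u
  · exact ⟨_, H.val_sing T hu⟩
  by_cases u1 : u = 1
  · exact ⟨deg (T.c 0), by rw [u1, deg_eq]; simp⟩
  exact (H.reg T hk hg hu u1).imp fun a ha => ha.1

theorem orth {α f : G → ℤ} (hα : ∀ g, (T.c 0).1 g = α g) {ψ : IrrCharacter G} (hψ : ψ ∉ T.X)
    (hf : ∀ g, ψ.1 g = f g) :
    ∑ g, (if p ∣ orderOf g then -T.s 0 else T.X.card * (α g + T.s 0)) * f g = 0 := by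
  have e : ∑ θ ∈ T.X, ∑ g, θ.1 g * conj (ψ.1 g) = 0 := Finset.sum_eq_zero fun θ hθ => by
    have := irr_classInner_of_ne θ.2 ψ.2 fun e => hψ (Subtype.ext e ▸ hθ)
    exact (mul_eq_zero.1 this).resolve_left (inv_ne_zero card_ne_zero_complex)
  rw [Finset.sum_comm] at e
  have : ((∑ g, (if p ∣ orderOf g then -T.s 0 else T.X.card * (α g + T.s 0)) * f g : ℤ) : ℂ) =
      0 := by
    rw [← e, Int.cast_sum]
    refine Finset.sum_congr rfl fun g _ => ?_
    rw [← Finset.sum_mul, hf, map_intCast, Int.cast_mul]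
    congr 1
    split_ifs with hg
    · obtain ⟨i, hi, c⟩ := H.sing hg
      have := T.valX i hi 1 (one_mem _)
      rw [mul_one, (H.sy T).1] at this
      rw [Finset.sum_congr rfl fun θ _ => val_conj θ c, this]
    · rw [Finset.sum_congr rfl fun θ hθ => T.reg θ hθ g hg, Finset.sum_const, H.valE T hg, hα]
      simp [mul_add]
  exact_mod_cast this

theorem cu (hu : p ∣ orderOf u) : Nat.card (Cx u) = p := by
  obtain ⟨i, hi, c⟩ := H.sing hu
  have e := sum_normSq u
  rw [Finset.sum_congr rfl fun θ _ => congrArg _ (val_conj θ c), sum_normSq] at e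
  have : Cx (xp z i) = Cx z := le_antisymm (fun g hg => mem_Cx_of_xp h hi (mem_Cx.1 hg))
    fun g hg => mem_Cx.2 (Commute.pow_right (mem_Cx.1 hg) _)
  rw [this, H.cz] at e
  exact_mod_cast e.symm

open Classical in
theorem inv_le (hu : p ∣ orderOf u) :
    (Finset.univ.filter fun a : G => orderOf a = 2 ∧ a * u * a⁻¹ = u⁻¹).card ≤ p := by
  rcases (Finset.univ.filter fun a : G => orderOf a = 2 ∧
    a * u * a⁻¹ = u⁻¹).eq_empty_or_nonempty with e | ⟨b, hb⟩
  · rw [e]; simp
  refine le_of_le_of_eq ?_ ((Nat.card_eq_card_toFinset (Cx u : Set G)).symm.trans (H.cu hu))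
  refine Finset.card_le_card_of_injOn (b * ·) (fun a ha => ?_) fun a _ c _ e => mul_left_cancel e
  simp only [Finset.coe_filter, Finset.mem_filter, Finset.mem_univ, true_and, Set.mem_ofPred_eq,
    Set.coe_toFinset] at ha hb ⊢
  exact mul_mem_Cx hb.2 ha.2

theorem dt (p5 : 5 ≤ p) : ∃ x y w k s t α, Dt G p x y w k s t α := by
  classical
  obtain ⟨T⟩ := exists_gen h (n := 1) H.he
  obtain ⟨k, hk, hg, K⟩ := H.exists_k T
  choose α hα using H.exists_int T
  have ev : 2 ∣ Nat.card G := (H.he ▸ h.card_eq ▸ (by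
    rw [H.he]; exact ⟨(Nx z).index * p * Nat.card h.V, by ring⟩) : 2 ∣ Nat.card G)
  obtain ⟨t, ht⟩ := exists_prime_orderOf_dvd_card' (G := G) 2 ev
  have inj : ∀ {u : G} {a : ℤ}, (T.c 0).1 u = a → a = α u := fun {u a} e => by
    rw [hα] at e; exact_mod_cast e.symm
  obtain ⟨-, a, a1, a2, a3, -⟩ := H.inv1 T ht
  obtain rfl := inj a1
  obtain ⟨w, hw⟩ := Int.eq_ofNat_of_zero_le (a := deg (T.c 0) - α t) (by
    have := abs_lt.1 a3; omega)
  have hy := (H.sy T).2
  have hs := T.s_eq 0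
  have ss : T.s 0 * T.s 0 = 1 := sgn_sq hs
  have px : (p : ℤ) ∣ deg (T.c 0) - T.s 0 := by
    have := (T.mod 0).mul_left (T.s 0)
    rwa [mul_sub, ← mul_assoc, ss, one_mul, mul_one] at this
  have a0 : α 1 = deg (T.c 0) := (inj (by rw [deg_eq]; simp)).symm
  have aS : ∀ u : G, p ∣ orderOf u → α u = T.s 0 := fun u hu => (inj (H.val_sing T hu)).symm
  have hE : ∀ u : G, ¬ p ∣ orderOf u → T.E.1 u = (α u + T.s 0 : ℤ) := fun u hu => by
    rw [H.valE T hu, hα]; push_cast; rfl
  have m2 : 2 * (T.X.card : ℤ) = p - 1 := by have := T.cardX; omega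
  have m0 : (T.X.card : ℤ) ≠ 0 := by omega
  have pz : (p : ℤ) ≠ 0 := by omega
  have gz : (Fintype.card G : ℤ) = p * (deg (T.c 0) * deg T.E * k ^ 2) := by
    rw [Fintype.card_eq_nat_card, hg]; push_cast; ring
  -- orthogonality
  have o1 := H.orth T hα (ψ := one1 G) (f := fun _ => 1) (fun e => T.X1 _ e rfl) (by simp)
  have o2 := H.orth T hα (T.cX 0) hα
  have o3 : ∑ g, α g = 0 := by
    have := irr_classInner_of_ne (T.c 0).2 irr_one fun e => T.ne_one 0 (Subtype.ext e)
    have := (mul_eq_zero.1 this).resolve_left (inv_ne_zero card_ne_zero_complex)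
    simp only [hα, Pi.one_apply, map_one, mul_one] at this
    exact_mod_cast this
  have o4 : ∑ g, α g * α g = Nat.card G := by
    have := irr_classInner_self (T.c 0).2
    unfold classInner at this
    rw [inv_mul_eq_one₀ card_ne_zero_complex] at this
    simp only [hα, map_intCast] at this
    exact_mod_cast this.symm
  have sp := fun f : G → ℤ => Finset.sum_filter_add_sum_filter_not Finset.univ
    (fun u : G => p ∣ orderOf u) f
  set S := Finset.univ.filter fun u : G => p ∣ orderOf u with hS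
  set R := Finset.univ.filter fun u : G => ¬ p ∣ orderOf u with hR
  have mS : ∀ u ∈ S, p ∣ orderOf u := fun u hu => (Finset.mem_filter.1 hu).2
  have mR : ∀ u ∈ R, ¬ p ∣ orderOf u := fun u hu => (Finset.mem_filter.1 hu).2
  have c0 : (S.card : ℤ) + R.card = Fintype.card G := by simpa using sp fun _ => 1
  rw [← sp, Finset.sum_congr rfl fun u hu => by rw [if_pos (mS u hu)],
    Finset.sum_congr (s₁ := R) rfl fun u hu => by rw [if_neg (mR u hu), mul_one],
    ← Finset.mul_sum, ← Finset.mul_sum, Finset.sum_add_distrib] at o1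
  rw [← sp, Finset.sum_congr rfl fun u hu => by rw [if_pos (mS u hu), aS u (mS u hu)],
    Finset.sum_congr (s₁ := R) rfl fun u hu => by
      rw [if_neg (mR u hu), mul_assoc, mul_comm _ (α u)], ← Finset.mul_sum (s := R)] at o2
  rw [← sp, Finset.sum_congr rfl fun u hu => aS u (mS u hu)] at o3
  simp only [Finset.sum_const, nsmul_eq_mul, mul_one] at o1 o2 o3
  have cS : (S.card : ℤ) = T.X.card * (deg (T.c 0) * deg T.E * k ^ 2) :=
    mul_left_cancel₀ pz (by
      linear_combination (-T.s 0) * o1 + T.s 0 * T.X.card * o3 + T.X.card * c0 + T.X.card * gz -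
        S.card * m2 - (S.card + T.X.card * S.card - T.X.card * R.card) * ss)
  refine ⟨deg (T.c 0), deg T.E, w, k, T.s 0, t, α, hp.out, p5, hs, hy,
    two_le_deg H.perf (T.ne_one 0), two_le_deg H.perf (T.X1 _ T.E_mem), px, by rw [hg]; ring,
    fun ⟨c, hc⟩ => h.not_sq ⟨c * k, by rw [hg]; linear_combination p * k * hc⟩, ?_, ht,
    fun u hu => H.conj ht hu, ?_, by omega, ?_, ?_,
    fun u v c => inj (by rw [val_conj _ c, hα]), a0, aS, fun u u1 hu =>
      ⟨irr_int_abs_lt H.nc (T.ne_one 0) u1 (hα u),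
        irr_int_abs_lt H.nc (T.X1 _ T.E_mem) u1 (hE u hu)⟩, fun u u1 hu => ?_,
    fun u u1 hu => h.not_dvd_card_Cx H.hV u1 hu, fun u u1 hu => ?_, fun u hu =>
      ⟨irr_deg_dvd_index_mul _ (hα u), irr_deg_dvd_index_mul _ (hE u hu)⟩,
    fun u q hq qp hu => ?_, ?_, o4, ?_, fun u hu => H.inv_le hu⟩
  · obtain ⟨e1, e2, -⟩ := loc_num H.nc h (m := deg (T.c 0) * deg T.E * k ^ 2) (by rw [hg]; ring)
    rw [H.he, H.cardV] at e1
    have e3 : ((Nx z).index : ℤ) * 2 = deg (T.c 0) * deg T.E * k ^ 2 := by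
      rw [mul_one] at e1; exact_mod_cast e1
    have e4 : (p : ℤ) ∣ (Nx z).index - 1 :=
      ⟨((Nx z).index / p : ℕ), by
        have := Nat.div_add_mod (Nx z).index p
        rw [e2] at this
        exact sub_eq_of_eq_add (by exact_mod_cast this.symm)⟩
    obtain ⟨c, hc⟩ := px
    obtain ⟨d, hd⟩ := e4
    have : (p : ℤ) ∣ 2 * (k ^ 2 - 1) :=
      ⟨2 * d - c * (p * c + 3 * T.s 0) * k ^ 2, by
        rw [hy, show (deg (T.c 0) : ℤ) = p * c + T.s 0 by omega,
          show ((Nx z).index : ℤ) = p * d + 1 by omega] at e3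
        linear_combination -e3 - 2 * k ^ 2 * ss⟩
    refine ((Nat.prime_iff_prime_int.1 hp.out).dvd_or_dvd this).resolve_left fun e => ?_
    have := Int.le_of_dvd two_pos e
    omega
  · have := (K t ht _ a1).1
    rw [hw] at this; exact_mod_cast this
  · have : (4 : ℤ) ∣ w := by rw [← hw]; omega
    exact_mod_cast this
  · obtain ⟨a, b1, b2⟩ := H.exists_inv ht
    obtain ⟨c, hc⟩ := px
    have x0 := deg_pos (T.c 0)
    have e : (deg (T.c 0) : ℤ) + (p - 1) * T.s 0 = p * (c + T.s 0) := by linear_combination hc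
    have := abs_le_of_coset h (T.c 0) (fun i hi => T.val' 0 hi) e (n := a)
      (h.mem_Nx_of_conj (i := 1) one_ne_zero (by
        rw [xp_one, b2]; exact inv_mem (mem_zpowers z))) (fun e => ?_)
      (by rw [val_conj _ b1, a1])
    · have c0 : 0 ≤ c + T.s 0 := by
        have x2 := two_le_deg H.perf (T.ne_one 0)
        have : (0 : ℤ) < p := by omega
        rcases hs with e' | e' <;> rw [e'] at hc ⊢
        · have : 0 ≤ c := by nlinarith
          omega
        · have : 0 < c := by nlinarith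
          omega
      rw [abs_of_nonneg c0] at this
      rw [e]; exact mul_le_mul_of_nonneg_left this (by positivity)
    · rw [mem_Cx.1 e, mul_inv_cancel_right, eq_inv_iff_mul_eq_one, ← sq] at b2
      have := Nat.le_of_dvd two_pos (h.ord ▸ orderOf_dvd_of_pow_eq_one b2)
      omega
  · obtain ⟨a, b1, -, -, b2, -⟩ := H.reg T hk hg hu u1
    exact inj b1 ▸ b2
  · obtain ⟨a, b1, -, -, -, b2⟩ := H.reg T hk hg hu u1
    obtain rfl := inj b1
    rw [show (p - 1) / 2 = T.X.card by have := T.cardX; omega] at b2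
    rw [← m2]; linarith
  · have := Fact.mk hq
    have hr : ¬ p ∣ orderOf u := fun e =>
      qp ((Nat.prime_dvd_prime_iff_eq hp.out hq).1 (hu ▸ e)).symm
    have e1 := prime_bd _ hu (hα u)
    have e2 := prime_bd _ hu (hE u hr)
    refine ⟨dvd_sub_comm.1 (dvd_val_sub_deg q _ (k := 1) (by rw [pow_one, ← hu, pow_orderOf_eq_one])
      (hα u)), by linarith, ?_⟩
    rw [show (deg (T.c 0) : ℤ) = deg T.E - T.s 0 by omega]; linarith
  · have e : Finset.univ.filter (fun u : G => u ≠ 1 ∧ ¬ p ∣ orderOf u) = R.erase 1 := by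
      ext u; simp [hR]
    have e1 : (1 : G) ∈ R := by simpa [hR] using hp.out.one_lt.ne'
    rw [e, Finset.sum_erase_eq_sub e1, a0, ← hy]
    refine mul_left_cancel₀ m0 ?_
    linear_combination o2 + cS + S.card * ss
  · have : (2 * S.card : ℤ) = (p - 1 : ℕ) * (deg (T.c 0) * deg T.E * k ^ 2) := by
      rw [cS, Nat.cast_sub (by omega)]; push_cast; rw [← m2]; ring
    exact_mod_cast this

end Hy

theorem exists_dt' (hG : ¬ IsMulCommutative G) (h : DefOne p z) (hV : h.V = ⊥)
    (he : Nat.card h.H = 2) (p5 : 5 ≤ p) : ∃ x y w k s t α, Dt G p x y w k s t α :=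
  Hy.dt (h := h) ⟨hG, by omega, hV, he⟩ p5

end IX
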