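import Cfsg.Agent.H7.Frobenius

/-! Groups in which more than half of the elements square to one. -/

set_option autoImplicit false

namespace IX
open Cfsg Subgroup
open scoped Classical

variable {C : Type*} [Group C]

/-- Elements centralizing or inverting `y`. -/
def Nst (y : C) : Subgroup C where
  carrier := {h | h * y * h⁻¹ = y ∨ h * y * h⁻¹ = y⁻¹}
  one_mem' := by simp
  mul_mem' := by
    intro a b ha hb
    have e : a * b * y * (a * b)⁻¹ = a * (b * y * b⁻¹) * a⁻¹ := by group
    have e' : a * y⁻¹ * a⁻¹ = (a * y * a⁻¹)⁻¹ := by group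
    simp only [Set.mem_ofPred_eq] at ha hb ⊢
    rw [e]
    rcases hb with hb | hb <;> rw [hb]
    · exact ha
    · rw [e']; rcases ha with ha | ha <;> simp [ha]
  inv_mem' := by
    intro a ha
    simp only [Set.mem_ofPred_eq] at ha ⊢
    rcases ha with ha | ha
    · left; conv_lhs => rw [← ha]
      group
    · right
      have : y = a * y⁻¹ * a⁻¹ := by
        have e : a * y⁻¹ * a⁻¹ = (a * y * a⁻¹)⁻¹ := by group
        rw [e, ha, inv_inv]
      conv_lhs => rw [this]
      group

theorem half_inv [Fintype C] (h : Nat.card C < 2 * Nat.card {s : C // s ^ 2 = 1}) {y : C}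
    (hy : Odd (orderOf y)) (g : C) : g ∈ Nst y := by
  by_cases h1 : y = 1
  · left; simp [h1]
  have hyy : y ≠ y⁻¹ := fun e => by
    have : orderOf y ∣ 2 := orderOf_dvd_of_pow_eq_one (by rw [pow_two]; nth_rw 2 [e]; simp)
    rcases (Nat.dvd_prime Nat.prime_two).mp this with h2 | h2
    · exact h1 (orderOf_eq_one_iff.mp h2)
    · rw [h2] at hy; exact absurd hy (by decide)
  let I : C → Finset C := fun a => Finset.univ.filter fun s => (a * s) ^ 2 = 1
  let J : Finset C := Finset.univ.filter fun s => s ^ 2 = 1 ∧ s * y * s⁻¹ = y⁻¹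
  have hI : ∀ a, (I a).card = Nat.card {s : C // s ^ 2 = 1} := fun a => by
    rw [Nat.card_eq_fintype_card, Fintype.card_subtype]
    exact Finset.card_bij (fun s _ => a * s) (fun s hs => by simpa [I] using hs)
      (fun _ _ _ _ e => mul_left_cancel e) fun s hs => ⟨a⁻¹ * s, by simpa [I] using hs, by simp⟩
  have key : ∀ s a : C, s ^ 2 = 1 → (a * s) ^ 2 = 1 → s * a * s⁻¹ = a⁻¹ := fun s a hs ha => by
    rw [pow_two] at hs ha
    rw [← eq_inv_of_mul_eq_one_right hs]
    apply eq_inv_of_mul_eq_one_right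
    rw [← ha]; group
  have k1 : ∀ s, s ∈ I 1 → s ∈ I y → s ∈ J := fun s a b => by
    simp only [I, J, Finset.mem_filter, Finset.mem_univ, true_and, one_mul] at a b ⊢
    exact ⟨a, key s y a b⟩
  have k2 : ∀ s, s ∈ I 1 → s ∈ I (y * y) → s ∈ J := fun s a b => by
    simp only [I, J, Finset.mem_filter, Finset.mem_univ, true_and, one_mul] at a b ⊢
    refine ⟨a, ?_⟩
    have e := key s _ a b
    obtain ⟨k, hk⟩ := hy
    have e2 : (y * y) ^ (k + 1) = y := by
      rw [← pow_two, ← pow_mul, show 2 * (k + 1) = orderOf y + 1 by omega, pow_succ,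
        pow_orderOf_eq_one, one_mul]
    rw [← e2, ← conj_pow, e, inv_pow]
  have k3 : ∀ s, s ∈ I y → s ∈ I (y * y) → s ∈ J := fun s a b => by
    simp only [I, J, Finset.mem_filter, Finset.mem_univ, true_and] at a b ⊢
    have e := key (y * s) y a (by rwa [← mul_assoc])
    have e1 : s * y * s⁻¹ = y⁻¹ := by
      have : s * y * s⁻¹ = y⁻¹ * (y * s * y * (y * s)⁻¹) * y := by group
      rw [this, e]; group
    refine ⟨?_, e1⟩
    have : (y * s) ^ 2 = y * (s * y * s⁻¹) * s ^ 2 := by rw [pow_two, pow_two]; group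
    rw [this, e1] at a
    simpa using a
  have c1 : (I 1 \ J).card + (I y \ J).card + (I (y * y) \ J).card + J.card ≤ Nat.card C := by
    rw [← Finset.card_union_of_disjoint, ← Finset.card_union_of_disjoint,
      ← Finset.card_union_of_disjoint, Nat.card_eq_fintype_card]
    · exact Finset.card_le_univ _
    · simp only [Finset.disjoint_union_left]
      exact ⟨⟨Finset.sdiff_disjoint, Finset.sdiff_disjoint⟩, Finset.sdiff_disjoint⟩
    · rw [Finset.disjoint_union_left]
      simp only [Finset.disjoint_left, Finset.mem_sdiff]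
      exact ⟨fun s a b => a.2 (k2 s a.1 b.1), fun s a b => a.2 (k3 s a.1 b.1)⟩
    · simp only [Finset.disjoint_left, Finset.mem_sdiff]
      exact fun s a b => a.2 (k1 s a.1 b.1)
  have c2 := fun a => Finset.le_card_sdiff J (I a)
  have c3 := c2 1
  have c4 := c2 y
  have c5 := c2 (y * y)
  rw [hI] at c3 c4 c5
  have c6 : Nat.card C < 4 * J.card := by omega
  obtain ⟨s, hs⟩ : J.Nonempty := Finset.card_pos.mp (by omega)
  have hJ : ∀ a ∈ J, a * y * a⁻¹ = y⁻¹ := fun a ha => (Finset.mem_filter.mp ha).2.2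
  have hJ' : ∀ a ∈ J, s * a * y * (s * a)⁻¹ = y := fun a ha => by
    have e : s * a * y * (s * a)⁻¹ = s * (a * y * a⁻¹) * s⁻¹ := by group
    have e' : s * y⁻¹ * s⁻¹ = (s * y * s⁻¹)⁻¹ := by group
    rw [e, hJ a ha, e', hJ s hs, inv_inv]
  have c7 : 2 * J.card ≤ Nat.card (Nst y) := by
    have : (J ∪ J.image (s * ·)).card = 2 * J.card := by
      rw [Finset.card_union_of_disjoint, Finset.card_image_of_injective _ (mul_right_injective s),
        two_mul]
      rw [Finset.disjoint_right]
      intro a ha hb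
      obtain ⟨b, hb', rfl⟩ := Finset.mem_image.mp ha
      exact hyy ((hJ' b hb').symm.trans (hJ _ hb))
    rw [← this, Nat.card_eq_fintype_card, Fintype.card_subtype]
    refine Finset.card_le_card fun a ha => ?_
    simp only [Finset.mem_filter, Finset.mem_univ, true_and]
    rcases Finset.mem_union.mp ha with ha | ha
    · exact Or.inr (hJ a ha)
    · obtain ⟨b, hb', rfl⟩ := Finset.mem_image.mp ha
      exact Or.inl (hJ' b hb')
  have c8 := (Nst y).card_mul_index
  have c9 : (Nst y).index = 1 := by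
    have := (Nst y).index_ne_zero_of_finite
    by_contra h2
    have : 2 ≤ (Nst y).index := by omega
    nlinarith
  rw [index_eq_one.mp c9]; trivial

/-- If more than half of the elements square to one there is a normal `2`-complement. -/
theorem half [Finite C] (h : Nat.card C < 2 * Nat.card {s : C // s ^ 2 = 1}) :
    HasNormalPComplement 2 C := by
  have := Fintype.ofFinite C
  refine H7.frobenius_normal_complement fun U hU g hg hc => ?_
  have ho : Odd (orderOf g) := Nat.coprime_two_right.mp hc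
  intro u hu
  have h1 : u⁻¹ * (g * u * g⁻¹) ∈ U := mul_mem (inv_mem hu) ((mem_normalizer_iff.mp hg u).mp hu)
  have h2 : u⁻¹ * (g * u * g⁻¹) ∈ zpowers g := by
    have e : u⁻¹ * (g * u * g⁻¹) = u⁻¹ * g * u⁻¹⁻¹ * g⁻¹ := by group
    rw [e]
    rcases half_inv h ho u⁻¹ with e | e <;> rw [e] <;>
      exact mul_mem (by simp) (by simp)
  obtain ⟨k, hk⟩ := IsPGroup.iff_orderOf.mp hU ⟨_, h1⟩
  rw [← Subgroup.orderOf_coe] at hk
  have h3 := orderOf_dvd_of_mem_zpowers h2
  simp only at hk
  rw [hk] at h3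
  have h4 : 2 ^ k = 1 := Nat.Coprime.eq_one_of_dvd (hc.symm.pow_left k) h3
  have h5 := orderOf_eq_one_iff.mp (hk.trans h4)
  have : g * u * g⁻¹ = u := by rw [← mul_left_cancel_iff (a := u⁻¹), h5]; simp
  exact (mul_inv_eq_iff_eq_mul.mp this).symm

end IX
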