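import Cfsg.Agent.IX.Stmt
import Cfsg.Agent.IX.Half

/-! Counting pairs of involutions. -/

set_option autoImplicit false

namespace IX
open Cfsg H8 H2 Subgroup
open scoped Classical

variable {G : Type*} [Group G] [Fintype G]

/-- involutions inverting `u` -/
noncomputable def Jv (u : G) : Finset G :=
  Finset.univ.filter fun a : G => orderOf a = 2 ∧ a * u * a⁻¹ = u⁻¹

theorem Jv_le (u : G) : (Jv u).card ≤ Nat.card (Cx u) := by
  rcases (Jv u).eq_empty_or_nonempty with h | ⟨a, ha⟩
  · simp [h]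
  have hJ : ∀ b ∈ Jv u, b * u * b⁻¹ = u⁻¹ := fun b hb => (Finset.mem_filter.mp hb).2.2
  rw [Nat.card_eq_fintype_card, Fintype.card_subtype]
  refine Finset.card_le_card_of_injOn (a⁻¹ * ·) (fun b hb => ?_) fun _ _ _ _ e => mul_left_cancel e
  simp only [Finset.coe_filter, Finset.mem_univ, true_and, Set.mem_ofPred_eq, mem_Cx]
  have e : a⁻¹ * b * u = a⁻¹ * (b * u * b⁻¹) * b := by group
  rw [e, hJ b hb, ← hJ a ha]; group

theorem two_mul_dvd {u a : G} (hu : u ≠ u⁻¹) (ha : a * u * a⁻¹ = u⁻¹) :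
    2 * Nat.card (Cx u) ∣ Nat.card G := by
  have hle : Cx u ≤ Nst u := fun b hb => Or.inl (by rw [mem_Cx.1 hb]; simp)
  have h2 : ((Cx u).subgroupOf (Nst u)).index = 2 := by
    rw [index_eq_two_iff]
    refine ⟨⟨a, Or.inr ha⟩, fun b => ?_⟩
    have e : ∀ c : G, c ∈ Cx u ↔ c * u * c⁻¹ = u := fun c => by rw [mem_Cx, mul_inv_eq_iff_eq_mul]
    have e1 : (b : G) * a * u * ((b : G) * a)⁻¹ = ((b : G) * u * (b : G)⁻¹)⁻¹ := by
      have : (b : G) * a * u * ((b : G) * a)⁻¹ = b * (a * u * a⁻¹) * (b : G)⁻¹ := by group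
      rw [this, ha]; group
    simp only [mem_subgroupOf, e, Subgroup.coe_mul, e1]
    rcases b.2 with h | h <;> rw [h]
    · exact Or.inr ⟨rfl, hu.symm⟩
    · exact Or.inl ⟨inv_inv u, hu.symm⟩
  have h3 := ((Cx u).subgroupOf (Nst u)).index_mul_card
  rw [h2, Nat.card_congr (subgroupOfEquivOfLe hle).toEquiv] at h3
  exact h3 ▸ card_subgroup_dvd_card _

theorem Jv_conj {t u : G} (h : IsConj t u) : (Jv u).card ≤ (Jv t).card := by
  obtain ⟨c, rfl⟩ := isConj_iff.1 h
  refine Finset.card_le_card_of_injOn (fun a => c⁻¹ * a * c) (fun b hb => ?_)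
    fun _ _ _ _ e => mul_left_cancel (mul_right_cancel e)
  simp only [Jv, Finset.coe_filter, Finset.mem_univ, true_and, Set.mem_ofPred_eq] at hb ⊢
  refine ⟨by rw [← hb.1]; simpa using (MulAut.conj c⁻¹).orderOf_eq b, ?_⟩
  have : c⁻¹ * b * c * t * (c⁻¹ * b * c)⁻¹ = c⁻¹ * (b * (c * t * c⁻¹) * b⁻¹) * c := by group
  rw [this, hb.2]; group

theorem pairs_le : (Finset.univ.filter fun a : G => orderOf a = 2).card ^ 2 ≤ ∑ u : G, (Jv u).card := by
  rw [pow_two, ← Finset.card_product, ← Finset.card_sigma]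
  refine Finset.card_le_card_of_injOn (fun ab => ⟨ab.1 * ab.2, ab.1⟩) (fun ab h => ?_)
    fun a _ b _ e => ?_
  · simp only [Finset.coe_product, Finset.coe_filter, Finset.mem_univ, true_and, Set.mem_prod,
      Set.mem_ofPred_eq] at h
    have h1 : ab.1 * ab.1 = 1 := by rw [← pow_two, ← h.1, pow_orderOf_eq_one]
    have h2 : ab.2 * ab.2 = 1 := by rw [← pow_two, ← h.2, pow_orderOf_eq_one]
    simp only [Finset.coe_sigma, Set.mem_sigma_iff, Finset.coe_univ, Set.mem_univ, Jv,
      Finset.coe_filter, Finset.mem_univ, true_and, Set.mem_ofPred_eq]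
    refine ⟨h.1, ?_⟩
    rw [← mul_assoc, h1, one_mul, mul_inv_rev, ← eq_inv_of_mul_eq_one_left h2]
  · simp only [Sigma.mk.injEq, heq_eq_eq] at e
    exact Prod.ext e.2 (mul_left_cancel (e.2 ▸ e.1))

variable {p x y w k : ℕ} {s : ℤ} {t : G} {α : G → ℤ}

theorem Dt.ct' (D : Dt G p x y w k s t α) (hk : k = 1) (hs : s = -1) (hx : x + 1 = 2 * p)
    (hw : w = y) : HasNormalPComplement 2 (centralizer ({t} : Set G)) := by
  subst hk hs hw
  obtain ⟨q, rfl⟩ : ∃ q, p = q + 1 := ⟨p - 1, by have := D.p5; omega⟩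
  obtain rfl : x = 2 * q + 1 := by omega
  obtain rfl : w = 2 * q := by have := D.hy; omega
  have q4 : 4 ≤ q := by have := D.p5; omega
  have hN := D.card
  have hc := D.ct
  rw [one_mul] at hc
  have r2 : ∀ u : G, orderOf u = 2 → ¬ q + 1 ∣ orderOf u := fun u hu e => by
    have := Nat.le_of_dvd two_pos (hu ▸ e); omega
  have v : ∀ u : G, u ≠ 1 → ¬ q + 1 ∣ orderOf u → α u = 0 ∨ α u = 1 := fun u h1 h2 => by
    have h := D.sum
    rw [Nat.cast_one, one_pow, sub_self, mul_zero, Finset.sum_eq_zero_iff_of_nonneg fun a _ => by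
      rcases le_or_gt (α a) 0 with e | e <;> nlinarith] at h
    have := mul_eq_zero.1 (h u (by simp [h1, h2]))
    omega
  have vt : ∀ u : G, orderOf u = 2 → α u = 1 := fun u hu => by
    rw [← D.cls t u (D.cj u hu), D.at']; push_cast; ring
  set P := Finset.univ.filter fun u : G => q + 1 ∣ orderOf u with hP
  set I := Finset.univ.filter fun u : G => orderOf u = 2 with hI
  set B := Finset.univ.filter fun u : G => u ≠ 1 ∧ ¬ q + 1 ∣ orderOf u ∧ α u = 0 with hB
  set A := Finset.univ.filter fun u : G =>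
    u ≠ 1 ∧ ¬ q + 1 ∣ orderOf u ∧ α u = 1 ∧ orderOf u ≠ 2 with hA
  have one : ¬ q + 1 ∣ orderOf (1 : G) := by rw [orderOf_one, Nat.dvd_one]; omega
  have tot : ∀ (f : G → ℤ) (a b c d e : ℤ), f 1 ≤ a → (∀ u ∈ P, f u ≤ b) → (∀ u ∈ B, f u ≤ c) →
      (∀ u ∈ I, f u ≤ d) → (∀ u ∈ A, f u ≤ e) →
      ∑ u, f u ≤ a + b * P.card + c * B.card + d * I.card + e * A.card := by
    intro f a b c d e h1 h2 h3 h4 h5
    have : a + b * P.card + c * B.card + d * I.card + e * A.card =
        ∑ u : G, ((if u = 1 then a else 0) + (if u ∈ P then b else 0) + (if u ∈ B then c else 0) +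
          (if u ∈ I then d else 0) + (if u ∈ A then e else 0)) := by
      simp [Finset.sum_add_distrib, mul_comm]
    rw [this]
    refine Finset.sum_le_sum fun u _ => ?_
    by_cases e1 : u = 1
    · subst e1; simpa [hP, hI, hB, hA, one, show q ≠ 0 by omega] using h1
    by_cases e2 : q + 1 ∣ orderOf u
    · have : orderOf u ≠ 2 := fun e => r2 u e e2
      simpa [hP, hI, hB, hA, e1, e2, this] using h2 u (by simp [hP, e2])
    by_cases e3 : orderOf u = 2
    · have := h4 u (by simp [hI, e3])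
      have e4 := vt u e3
      rw [if_neg e1, if_neg (by simp [hP, e2]), if_neg (by simp [hB, e4]), if_pos (by simp [hI, e3]),
        if_neg (by simp [hA, e3])]
      simpa using this
    rcases v u e1 e2 with e4 | e4
    · simpa [hP, hI, hB, hA, e1, e2, e3, e4] using h3 u (by simp [hB, e1, e2, e4])
    · simpa [hP, hI, hB, hA, e1, e2, e3, e4] using h5 u (by simp [hA, e1, e2, e3, e4])
  have cP : (P.card : ℤ) = q * q * (2 * q + 1) := by
    have := D.cnt
    rw [← hP, Nat.add_sub_cancel] at this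
    have : (2 * P.card : ℤ) = q * ((2 * q + 1) * (2 * q) * 1 ^ 2) := by exact_mod_cast this
    linarith
  have cI : (I.card : ℤ) = (q + 1) * (2 * q + 1) := by
    have h1 := card_centralizer_mul_card_conj t
    have h2 : Nat.card {y : G // IsConj t y} = I.card := by
      rw [Nat.card_eq_fintype_card, Fintype.card_subtype]
      congr 1
      ext u
      simp only [hI, Finset.mem_filter, Finset.mem_univ, true_and]
      refine ⟨fun h => ?_, D.cj u⟩
      obtain ⟨c, rfl⟩ := isConj_iff.1 h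
      rw [← D.ot]; simpa using (MulAut.conj c).orderOf_eq t
    rw [h2, hc, hN] at h1
    have h3 : I.card = (q + 1) * (2 * q + 1) :=
      Nat.eq_of_mul_eq_mul_left (show 0 < 2 * q by omega) (by rw [h1]; ring)
    exact_mod_cast h3
  have hN' : (Nat.card G : ℤ) = (q + 1) * (2 * q + 1) * (2 * q) := by rw [hN]; push_cast; ring
  have t1 := tot (fun u => -(α u * α u)) (-((2 * q + 1) * (2 * q + 1))) (-1) 0 (-1) (-1)
    (by simp [D.one]) (fun u hu => by simp [D.sing u (Finset.mem_filter.1 hu).2])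
    (fun u hu => by simp [(Finset.mem_filter.1 hu).2.2.2])
    (fun u hu => by simp [vt u (Finset.mem_filter.1 hu).2])
    (fun u hu => by simp [(Finset.mem_filter.1 hu).2.2.2.1])
  have t2 := tot (fun u => α u * α u - 1) ((2 * q + 1) * (2 * q + 1) - 1) 0 (-1) 0 0
    (by simp [D.one]) (fun u hu => by simp [D.sing u (Finset.mem_filter.1 hu).2])
    (fun u hu => by simp [(Finset.mem_filter.1 hu).2.2.2])
    (fun u hu => by simp [vt u (Finset.mem_filter.1 hu).2])
    (fun u hu => by simp [(Finset.mem_filter.1 hu).2.2.2.1])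
  rw [Finset.sum_neg_distrib, D.nrm, hN', cP, cI] at t1
  rw [Finset.sum_sub_distrib, D.nrm] at t2
  simp only [Finset.sum_const, Finset.card_univ, ← Nat.card_eq_fintype_card, nsmul_eq_mul] at t2
  have t3 := tot (fun u => (Jv u).card) I.card (q + 1) (2 * q + 1) (Jv t).card q
    (by exact_mod_cast Finset.card_le_card fun a ha => by
          simpa [hI] using (Finset.mem_filter.1 ha).2.1)
    (fun u hu => by exact_mod_cast D.inv u (Finset.mem_filter.1 hu).2)
    (fun u hu => by
      obtain ⟨h1, h2, h3⟩ := (Finset.mem_filter.1 hu).2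
      have h4 := D.dv u h1 h2
      rw [h3] at h4
      have := Int.le_of_dvd (by push_cast; omega) h4
      have := Jv_le u
      push_cast at *; omega)
    (fun u hu => by exact_mod_cast Jv_conj (D.cj u (Finset.mem_filter.1 hu).2))
    (fun u hu => by
      obtain ⟨h1, h2, h3, h5⟩ := (Finset.mem_filter.1 hu).2
      have h4 := D.dv u h1 h2
      rw [h3, show ((1 : ℕ) : ℤ) * (((2 * q + 1 : ℕ) : ℤ) - 1) = ((2 * q : ℕ) : ℤ) by push_cast; ring,
        Int.natCast_dvd_natCast] at h4
      rcases (Jv u).eq_empty_or_nonempty with h | ⟨a, ha⟩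
      · simp [h]
      have h6 := two_mul_dvd (u := u) (fun e => h5 (orderOf_eq_prime (by
        rw [pow_two]; nth_rw 2 [e]; simp) h1)) (Finset.mem_filter.1 ha).2.2
      have h7 := Jv_le u
      obtain ⟨m, hm⟩ := h4
      rcases m with _ | _ | m
      · omega
      · exfalso
        rw [hN, ← show 2 * q = Nat.card (Cx u) by omega, one_pow, mul_one] at h6
        have h8 := Nat.dvd_of_mul_dvd_mul_right (by omega) h6
        have h9 := D.pp.eq_two_or_odd'.resolve_left (by omega)
        exact (h9.mul (odd_two_mul_add_one q)).not_two_dvd_nat h8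
      · have : (Jv u).card ≤ q := by nlinarith
        exact_mod_cast this)
  have t4 : ((I.card : ℤ)) ^ 2 ≤ ∑ u : G, ((Jv u).card : ℤ) := by exact_mod_cast pairs_le (G := G)
  rw [cP, cI] at t3
  rw [cI] at t4
  have a1 : (A.card : ℤ) ≤ (q + 1) * (2 * q + 1) * (q - 2) := by linarith
  have b1 : (B.card : ℤ) ≤ 4 * q * (q + 1) := by linarith
  have j1 : (q : ℤ) ≤ (Jv t).card := by
    have n0 : (0 : ℤ) < (q + 1) * (2 * q + 1) := by positivity
    refine le_of_mul_le_mul_left ?_ n0
    have a2 := mul_le_mul_of_nonneg_left a1 (show (0 : ℤ) ≤ q by positivity)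
    have b2 := mul_le_mul_of_nonneg_left b1 (show (0 : ℤ) ≤ 2 * q + 1 by positivity)
    linarith
  refine half ?_
  have j2 : (Jv t).card + 1 ≤ Nat.card {s : centralizer ({t} : Set G) // s ^ 2 = 1} := by
    have tt : t⁻¹ = t := by
      rw [inv_eq_iff_mul_eq_one, ← pow_two, ← D.ot, pow_orderOf_eq_one]
    rw [← Finset.card_insert_of_notMem (a := 1) (by simp [Jv]), Nat.card_eq_fintype_card,
      Fintype.card_subtype, ← Finset.card_map ⟨Subtype.val, Subtype.val_injective⟩]
    refine Finset.card_le_card fun a ha => ?_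
    simp only [Finset.mem_map, Finset.mem_filter, Finset.mem_univ, true_and,
      Function.Embedding.coeFn_mk]
    rcases Finset.mem_insert.1 ha with rfl | ha
    · exact ⟨1, one_pow _, rfl⟩
    · obtain ⟨h1, h2⟩ := (Finset.mem_filter.1 ha).2
      rw [tt, mul_inv_eq_iff_eq_mul] at h2
      exact ⟨⟨a, mem_Cx.2 h2⟩, Subtype.ext (by simpa [h1] using pow_orderOf_eq_one a), rfl⟩
  rw [hc]; omega

end IX
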