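import Cfsg.Agent.IX.Stmt

/-! The case `k = 1`: the zeros of `χ`. -/

set_option autoImplicit false

namespace IX.Dt
open Cfsg H8 H2 Subgroup

variable {G : Type*} [Group G] [Fintype G] {p x y w : ℕ} {s : ℤ} {t : G} {α : G → ℤ}
  (D : Dt G p x y w 1 s t α)
include D

theorem zero_or {u : G} (u1 : u ≠ 1) (hu : ¬ p ∣ orderOf u) : α u = 0 ∨ α u = -s := by
  classical
  have h := D.sum
  rw [Nat.cast_one, one_pow, sub_self, mul_zero, Finset.sum_eq_zero_iff_of_nonneg (fun v _ => by
    rcases D.hs with e | e <;> rw [e] <;> rcases le_or_gt (α v) (-1) with c | c <;>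
      rcases le_or_gt (α v) 0 with d | d <;> nlinarith)] at h
  have := h u (by simpa using ⟨u1, hu⟩)
  rcases mul_eq_zero.1 this with e | e
  · exact .inl e
  · exact .inr (by omega)

open Classical in
/-- the number of zeros of `χ` -/
theorem card_zero : (Finset.univ.filter fun u : G => α u = 0).card + 1 = x ^ 2 := by
  have h1 : ∀ u : G, α u * α u + (if α u = 0 then 1 else 0) =
      1 + if u = 1 then (x : ℤ) ^ 2 - 1 else 0 := fun u => by
    have x2 := D.x2
    by_cases u1 : u = 1
    · rw [u1, D.one, if_neg (by omega), if_pos rfl]; ring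
    rw [if_neg u1]
    by_cases hu : p ∣ orderOf u
    · rw [D.sing u hu]; rcases D.hs with e | e <;> simp [e]
    · rcases D.zero_or u1 hu with e | e
      · simp [e]
      · rw [e]; rcases D.hs with e | e <;> simp [e]
  have h2 := Finset.sum_congr (rfl : (Finset.univ : Finset G) = _) fun u _ => h1 u
  rw [Finset.sum_add_distrib, Finset.sum_add_distrib, D.nrm, Finset.sum_boole,
    Finset.sum_ite_eq', if_pos (Finset.mem_univ _), Finset.sum_const, Finset.card_univ,
    Nat.card_eq_fintype_card, nsmul_one] at h2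
  have : (((Finset.univ.filter fun u : G => α u = 0).card + 1 : ℕ) : ℤ) = (x ^ 2 : ℕ) := by
    push_cast; linarith
  exact_mod_cast this

theorem ev (hs : s = 1) (hx : x = p + 1) (hw : w = x) {q : ℕ} (hq : q.Prime) (h2 : q ≠ 2)
    (hqx : q ∣ x) : False := by
  classical
  have := Fact.mk hq
  obtain ⟨u, hu⟩ := exists_prime_orderOf_dvd_card' (G := G) q (by
    rw [D.card]; exact (hqx.mul_left p).mul_right _ |>.mul_right _)
  have qp : q ≠ p := fun e => D.np ((e ▸ hqx).mul_right _ |>.mul_right _)
  have u1 : u ≠ 1 := by rintro rfl; rw [orderOf_one] at hu; exact hq.one_lt.ne hu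
  have up : ¬ p ∣ orderOf u := fun e => qp ((Nat.prime_dvd_prime_iff_eq D.pp hq).1 (hu ▸ e)).symm
  have a0 : α u = 0 := by
    refine (D.zero_or u1 up).resolve_right fun e => ?_
    have h1 := (D.pr u q hq qp hu).1
    rw [e, hs, sub_neg_eq_add, dvd_add_right (Int.natCast_dvd_natCast.2 hqx)] at h1
    exact hq.one_lt.ne' (Nat.dvd_one.1 (Int.natCast_dvd_natCast.1 h1))
  have t0 : α t = 0 := by rw [D.at', hw, sub_self]
  have h3 : (insert u (Finset.univ.filter fun v => IsConj t v)).card ≤
      (Finset.univ.filter fun u : G => α u = 0).card := Finset.card_le_card fun v hv => by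
    rw [Finset.mem_insert, Finset.mem_filter] at hv
    rcases hv with rfl | hv
    · simpa using a0
    · simpa [← D.cls t v hv.2] using t0
  rw [Finset.card_insert_of_notMem (by
    simp only [Finset.mem_filter, Finset.mem_univ, true_and]
    intro e
    obtain ⟨c, rfl⟩ := isConj_iff.1 e
    have := MulEquiv.orderOf_eq (MulAut.conj c) t
    rw [MulAut.conj_apply, hu, D.ot] at this
    exact h2 this)] at h3
  have h4 := card_centralizer_mul_card_conj t
  rw [Nat.card_eq_fintype_card (α := {y : G // IsConj t y}), Fintype.card_subtype, D.card,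
    show Nat.card (centralizer ({t} : Set G)) = 1 * w from D.ct, hw, one_mul] at h4
  have h5 := D.card_zero
  have h6 : y = p + 2 := by have := D.hy; omega
  have h7 : (Finset.univ.filter fun v => IsConj t v).card = p * y :=
    Nat.eq_of_mul_eq_mul_left (by have := D.x2; omega : 0 < x) (by rw [h4]; ring)
  rw [h7, h6] at h3
  rw [hx] at h5
  nlinarith

end IX.Dt
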