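import Cfsg.Agent.H7.Frobenius
import Cfsg.Agent.H9.Tools2

/-! Groups of some small orders with a central involution have a normal 2-complement. -/

set_option autoImplicit false

namespace IX
open Cfsg Subgroup

theorem fr_chk : ∀ n ∈ [4, 8, 16, 20, 28, 32, 36, 64, 80, 700, 900], ∀ i ∈ List.range 7,
    n % 2 ^ i = 0 → ∀ j ∈ List.range 7, 1 ≤ j → j < i → ∀ q ∈ List.range 901, n % q = 0 →
    q % 2 = 1 → 2 ^ i % q = 2 ^ j % q → q = 1 := by decide +kernel

theorem fr {H : Type*} [Group H] [Finite H] {t : H} (hc : t ∈ center H) (ht : orderOf t = 2)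
    (h : Nat.card H ∈ [4, 8, 16, 20, 28, 32, 36, 64, 80, 700, 900]) :
    HasNormalPComplement 2 H := by
  refine H7.frobenius_normal_complement fun U hU g hg co => ?_
  refine zpowers_le.1 (H4.le_of_forall_primePow fun q hq x hx ⟨k, hk⟩ => ?_)
  haveI := Fact.mk hq
  by_cases x1 : x = 1
  · rw [x1]; exact one_mem _
  have qx : q ∣ orderOf x := by
    obtain ⟨i, -, hi⟩ := (Nat.dvd_prime_pow hq).1 (orderOf_dvd_of_pow_eq_one hk)
    rcases i with _ | i
    · exact absurd (orderOf_eq_one_iff.1 hi) x1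
    · rw [hi]; exact dvd_pow_self q (by omega)
  have q2 : q % 2 = 1 := Nat.odd_iff.1 (Nat.coprime_two_right.1
    (co.coprime_dvd_left (qx.trans (orderOf_dvd_of_mem_zpowers hx))))
  haveI : (zpowers t).Normal := ⟨fun y hy g => by
    rwa [mem_center_iff.1 (zpowers_le.2 hc hy) g, mul_inv_cancel_right]⟩
  have hW : IsPGroup 2 (U ⊔ zpowers t : Subgroup H) :=
    hU.to_sup_of_normal_right (.of_card (n := 1) (by rw [Nat.card_zpowers, ht, pow_one]))
  have hn : x ∈ normalizer ((U ⊔ zpowers t : Subgroup H) : Set H) :=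
    H4.le_normalizer_sup (zpowers_le.2 hg) le_normalizer_of_normal hx
  have m : Nat.card (U ⊔ zpowers t : Subgroup H) ≡
      Nat.card ((U ⊔ zpowers t) ⊓ H9.Cen x : Subgroup H) [MOD q] :=
    H9.card_modEq_card_inter_Cen (fun g => g ∈ U ⊔ zpowers t) x hk
      fun g hg => (mem_normalizer_iff.1 hn g).1 hg
  obtain ⟨i, hi⟩ := hW.exists_card_eq
  obtain ⟨j, hj⟩ := (hW.to_inf_left (K := H9.Cen x)).exists_card_eq
  have d1 := card_subgroup_dvd_card (U ⊔ zpowers t)
  have d2 := card_dvd_of_le (zpowers_le.2 (show t ∈ (U ⊔ zpowers t) ⊓ H9.Cen x from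
    ⟨mem_sup_right (mem_zpowers t), H9.mem_Cen.2 (mem_center_iff.1 hc x)⟩))
  have d3 := qx.trans (orderOf_dvd_natCard x)
  have d4 : Nat.card H ≤ 900 ∧ 0 < Nat.card H ∧ ¬ 128 ∣ Nat.card H := by
    simp only [List.mem_cons, List.not_mem_nil, or_false] at h; omega
  rw [Nat.card_zpowers, ht, hj] at d2
  rw [hi] at d1
  rw [hi, hj] at m
  have i7 : i < 7 := by
    by_contra c; exact d4.2.2 ((pow_dvd_pow 2 (not_lt.1 c)).trans d1)
  have ij : i ≤ j := by
    by_contra c
    exact hq.one_lt.ne' (fr_chk _ h i (List.mem_range.2 i7) (Nat.mod_eq_zero_of_dvd d1) j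
      (List.mem_range.2 (by omega)) (Nat.pos_of_ne_zero fun e => by rw [e] at d2; omega) (by omega) q
      (List.mem_range.2 (by have := Nat.le_of_dvd d4.2.1 d3; omega)) (Nat.mod_eq_zero_of_dvd d3) q2 m)
  have e := eq_of_le_of_card_ge (inf_le_left : (U ⊔ zpowers t) ⊓ H9.Cen x ≤ _)
    (by rw [hi, hj]; exact Nat.pow_le_pow_right two_pos ij)
  exact fun u hu => (H9.mem_Cen.1 (e.ge (mem_sup_left hu)).2).symm

end IX
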