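import Cfsg.Agent.S3214
import Cfsg.Agent.S3280
import Cfsg.Agent.W.Cor
import Cfsg.Agent.GW.Cv3
import Cfsg.Agent.H8.SzCard
import Cfsg.Agent.H8.BrNum

/-! The final identification for S3251. -/

set_option autoImplicit false

namespace IX
open Cfsg H8 Subgroup

/-- the conclusion of S3251 -/
def Concl (G : Type*) [Group G] : Prop :=
  (∃ (F : Type) (_ : Field F) (_ : Fintype F), Fintype.card F = 5 ∧ Nonempty (G ≃* Matrix.ProjectiveSpecialLinearGroup (Fin 2) F)) ∨ (∃ (F : Type) (_ : Field F) (_ : Fintype F), Fintype.card F = 7 ∧ Nonempty (G ≃* Matrix.ProjectiveSpecialLinearGroup (Fin 2) F)) ∨ (∃ (F : Type) (_ : Field F) (_ : Fintype F), Fintype.card F = 9 ∧ Nonempty (G ≃* Matrix.ProjectiveSpecialLinearGroup (Fin 2) F)) ∨ (∃ (F : Type) (_ : Field F) (_ : Fintype F), Fintype.card F = 8 ∧ Nonempty (G ≃* Matrix.ProjectiveSpecialLinearGroup (Fin 2) F)) ∨ (∃ (F : Type) (_ : Field F) (_ : Fintype F), Fintype.card F = 16 ∧ Nonempty (G ≃* Matrix.ProjectiveSpecialLinearGroup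 (Fin 2) F)) ∨ (∃ (F : Type) (_ : Field F) (_ : Fintype F), Fintype.card F = 25 ∧ Nonempty (G ≃* Matrix.ProjectiveSpecialLinearGroup (Fin 2) F)) ∨ (∃ (F : Type) (_ : Field F) (_ : Fintype F), Fintype.card F = 27 ∧ Nonempty (G ≃* Matrix.ProjectiveSpecialLinearGroup (Fin 2) F)) ∨ (∃ (F : Type) (_ : Field F) (_ : Fintype F), Fintype.card F = 81 ∧ Nonempty (G ≃* Matrix.ProjectiveSpecialLinearGroup (Fin 2) F)) ∨ (∃ (F : Type) (_ : Field F) (_ : Fintype F), Fintype.card F = 2401 ∧ Nonempty (G ≃* Matrix.ProjectiveSpecialLinearGroup (Fin 2) F)) ∨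
      (∃ (F : Type) (_ : Field F) (_ : Fintype F), Fintype.card F = 4 ∧ Nonempty (G ≃* Matrix.ProjectiveSpecialLinearGroup (Fin 3) F))

/-- the test on the order -/
def OK (g : ℕ) : Prop := g < 100000000000 ∧ g ≠ 2520 ∧
  (∀ m ∈ List.range 10, 1 ≤ m → g % (2 ^ (2 * m + 1)) ^ 2 = 0 →
    g % ((2 ^ (2 * m + 1)) ^ 2 + 1) ≠ 0) ∧
  (∀ n ∈ List.range 13, g = 2 ^ n * ((2 ^ n) ^ 2 - 1) → n ≤ 4) ∧
  ∀ a ∈ List.range 60, ∀ q ∈ List.range' (100 * a) 100, 2 * g = q * (q ^ 2 - 1) → q % 2 = 1 →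
    q % 15 ≠ 0 → q % 21 ≠ 0 →
    q % 35 ≠ 0 → q ∈ [1, 3, 5, 7, 9, 25, 27, 81, 2401]

set_option synthInstance.maxSize 4096 in
instance (g : ℕ) : Decidable (OK g) := by unfold OK; infer_instance

/-- the orders `p x y` -/
def OL : List ℕ := [3360, 9355500, 6142500, 6, 60, 168, 210, 360, 504, 990, 1680, 2730, 4080, 4620, 7350, 7800, 7980, 9828,
  11760, 13800, 20160, 21420, 21924, 41650, 46620, 52416, 110544, 124992, 265680, 488250, 511920,
  2000250, 5695200, 11239200, 6920642400, 10467528750, 13823997600, 83682821250]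

theorem ok_OL : ∀ g ∈ OL, OK g := by decide +kernel

theorem sq_dvd_card_Sz {F : Type} [Field F] [Fintype F] {m : ℕ}
    (hF : Fintype.card F = 2 ^ (2 * m + 1)) :
    (2 ^ (2 * m + 1)) ^ 2 ∣ Nat.card (Lie.Sz F (2 ^ (m + 1))) := by
  have := H2.charP_two_of (H2.two_eq_zero_of_card hF)
  obtain ⟨T, hT⟩ := exists_tits hF
  have h1 := card_szQ T hT
  rw [Nat.card_eq_fintype_card (α := F), hF] at h1
  rw [← h1]
  exact card_subgroup_dvd_card _

theorem not_two {q r s : ℕ} (hq : IsPrimePow q) (hr : r.Prime) (hs : s.Prime) (h : r ≠ s) :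
    q % (r * s) ≠ 0 := fun e => by
  obtain ⟨p, k, hp, -, rfl⟩ := (isPrimePow_nat_iff _).1 hq
  have d := Nat.dvd_of_mod_eq_zero e
  exact h (((Nat.prime_dvd_prime_iff_eq hr hp).1 (hr.dvd_of_dvd_pow
    ((Nat.dvd_mul_right r s).trans d))).trans ((Nat.prime_dvd_prime_iff_eq hs hp).1
    (hs.dvd_of_dvd_pow ((Nat.dvd_mul_left s r).trans d))).symm)

variable {G : Type*} [Group G] [Finite G] [IsSimpleGroup G]

theorem c60 (h : Nat.card G = 60) : Concl G :=
  have : Fact (Nat.Prime 5) := ⟨by norm_num⟩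
  .inl ⟨ZMod 5, inferInstance, inferInstance, ZMod.card 5, GW.psl60 h⟩

/-- THE IDENTIFICATION -/
theorem ident' (hG : ¬ IsMulCommutative G)
    (hI : ∀ t : G, orderOf t = 2 → HasNormalPComplement 2 ↥(centralizer ({t} : Set G)))
    (h : OK (Nat.card G)) : Concl G := by
  obtain ⟨h0, h1, h2, h3, h4⟩ := h
  have pos : 0 < Nat.card G := Nat.card_pos
  rcases Cfsg.Agent.S3214.result hG hI with ⟨F, _, _, hq, ⟨e⟩⟩ | ⟨F, _, _, m, hm, hF, ⟨e⟩⟩ | ⟨⟨e⟩⟩ | h
  · have c := Nat.card_congr e.toEquiv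
    have pp := FiniteField.isPrimePow_card F
    rcases Nat.even_or_odd (Fintype.card F) with ev | od
    · obtain ⟨p, n, hp, -, hn⟩ := (isPrimePow_nat_iff _).1 pp
      obtain rfl : 2 = p := (Nat.prime_dvd_prime_iff_eq Nat.prime_two hp).1
        (Nat.prime_two.dvd_of_dvd_pow (hn ▸ ev.two_dvd))
      rw [W.card_psl_even hn.symm, ← hn] at c
      have n13 : n < 13 := by
        by_contra hc
        have a : 2 ^ 13 ≤ 2 ^ n := Nat.pow_le_pow_right two_pos (by omega)
        have b : (2 ^ 13) ^ 2 ≤ (2 ^ n) ^ 2 := Nat.pow_le_pow_left a 2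
        have := Nat.mul_le_mul a (Nat.sub_le_sub_right b 1)
        omega
      have := h3 n (List.mem_range.2 n13) c
      rw [← hn] at hq
      interval_cases n
      · omega
      · omega
      · exact c60 c
      · exact .inr (.inr (.inr (.inl ⟨F, _, _, hn.symm, ⟨e⟩⟩)))
      · exact .inr (.inr (.inr (.inr (.inl ⟨F, _, _, hn.symm, ⟨e⟩⟩))))
    · have c2 := GW.card_psl od
      rw [← c] at c2
      have lt : Fintype.card F < 6000 := by
        by_contra hc
        have a : 6000 ≤ Fintype.card F := by omega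
        have := Nat.mul_le_mul a (Nat.sub_le_sub_right (Nat.pow_le_pow_left a 2) 1)
        omega
      have := h4 (Fintype.card F / 100) (List.mem_range.2 (by omega)) _
        (List.mem_range'_1.2 (by omega)) c2 (Nat.odd_iff.1 od)
        (not_two (r := 3) (s := 5) pp (by norm_num) (by norm_num) (by norm_num))
        (not_two (r := 3) (s := 7) pp (by norm_num) (by norm_num) (by norm_num))
        (not_two (r := 5) (s := 7) pp (by norm_num) (by norm_num) (by norm_num))
      simp only [List.mem_cons, List.not_mem_nil, or_false] at this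
      rcases this with k | k | k | k | k | k | k | k | k
      · omega
      · omega
      · exact .inl ⟨F, _, _, k, ⟨e⟩⟩
      · exact .inr (.inl ⟨F, _, _, k, ⟨e⟩⟩)
      · exact .inr (.inr (.inl ⟨F, _, _, k, ⟨e⟩⟩))
      · exact .inr (.inr (.inr (.inr (.inr (.inl ⟨F, _, _, k, ⟨e⟩⟩)))))
      · exact .inr (.inr (.inr (.inr (.inr (.inr (.inl ⟨F, _, _, k, ⟨e⟩⟩))))))
      · exact .inr (.inr (.inr (.inr (.inr (.inr (.inr (.inl ⟨F, _, _, k, ⟨e⟩⟩)))))))
      · exact .inr (.inr (.inr (.inr (.inr (.inr (.inr (.inr (.inl ⟨F, _, _, k, ⟨e⟩⟩))))))))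
  · have c := Nat.card_congr e.toEquiv
    have d1 := sq_dvd_card_Sz hF
    have d2 := dvd_card_Sz hF
    rw [← c] at d1 d2
    have m10 : m < 10 := by
      by_contra hc
      have a : 2 ^ 21 ≤ 2 ^ (2 * m + 1) := Nat.pow_le_pow_right two_pos (by omega)
      have := (Nat.pow_le_pow_left a 2).trans (Nat.le_of_dvd pos d1)
      omega
    exact absurd (Nat.mod_eq_zero_of_dvd d2)
      (h2 m (List.mem_range.2 m10) hm (Nat.mod_eq_zero_of_dvd d1))
  · have c := Nat.card_congr e.toEquiv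
    have := two_mul_nat_card_alternatingGroup (α := Fin 7)
    rw [Nat.card_perm, Nat.card_fin, ← c] at this
    exact absurd (by simp [Nat.factorial] at this; omega) h1
  · exact .inr (.inr (.inr (.inr (.inr (.inr (.inr (.inr (.inr h))))))))

theorem ident (hG : ¬ IsMulCommutative G)
    (hI : ∀ t : G, orderOf t = 2 → HasNormalPComplement 2 ↥(centralizer ({t} : Set G)))
    (h : Nat.card G ∈ OL) : Concl G := ident' hG hI (ok_OL _ h)

/-- the case `p = 3` -/
theorem p3 [Fact (Nat.Prime 3)] (hG : ¬ IsMulCommutative G) {z : G} (h : DefOne 3 z)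
    (hV : h.V = ⊥) : Concl G := by
  have c : Nat.card (Cx z) ≤ 4 := by rw [h.card_Cx, hV, card_bot]; omega
  have n9 := h.not_sq
  rcases Cfsg.Agent.S3280.result (fun hc => hG (by infer_instance)) z c with ⟨⟨e⟩⟩ | ⟨⟨e⟩⟩ | ⟨⟨e⟩⟩ | k
  · have := two_mul_nat_card_alternatingGroup (α := Fin 5)
    rw [Nat.card_perm, Nat.card_fin, ← Nat.card_congr e.toEquiv] at this
    exact c60 (by simp [Nat.factorial] at this; omega)
  · have := two_mul_nat_card_alternatingGroup (α := Fin 6)
    rw [Nat.card_perm, Nat.card_fin, ← Nat.card_congr e.toEquiv] at this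
    exact absurd (by simp [Nat.factorial] at this; omega) n9
  · have := two_mul_nat_card_alternatingGroup (α := Fin 7)
    rw [Nat.card_perm, Nat.card_fin, ← Nat.card_congr e.toEquiv] at this
    exact absurd (by simp [Nat.factorial] at this; omega) n9
  · exact .inr (.inl k)

/-- the local data -/
theorem setup (hG : ¬ IsMulCommutative G) {p : ℕ} [hp : Fact p.Prime] (P : Sylow p G)
    (hPp : Nat.card (P : Subgroup G) = p)
    (hN : (P : Subgroup G).relIndex (normalizer ((P : Subgroup G) : Set G)) = 2) :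
    ∃ (z : G) (h : DefOne p z), h.V = ⊥ ∧ Nat.card h.H = 2 := by
  obtain ⟨m, hm⟩ : p ∣ Nat.card G := hPp ▸ card_subgroup_dvd_card _
  have hm' : ¬ p ∣ m := by
    have := (P : Subgroup G).card_mul_index
    rw [hPp, hm] at this
    exact Nat.eq_of_mul_eq_mul_left hp.out.pos this ▸ P.not_dvd_index
  obtain ⟨z, h⟩ := exists_defOne hm hm'
  obtain ⟨Q, hQ⟩ := h.exists_sylow
  have a : (normalizer ((P : Subgroup G) : Set G)).index = (Nx z).index :=
    P.card_eq_index_normalizer.symm.trans h.card_sylow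
  have b := relIndex_mul_index (le_normalizer (H := (P : Subgroup G)))
  have c := (P : Subgroup G).card_mul_index
  have d := (Nx z).card_mul_index
  rw [hN, a] at b
  rw [h.card_Nx, h.card_Cx, ← c, ← b, hPp] at d
  have e : Nat.card h.V * Nat.card h.H = 2 := by
    have := Nat.eq_of_mul_eq_mul_right (Nat.pos_of_ne_zero (index_ne_zero_of_finite (H := Nx z)))
      (d.trans (mul_assoc _ _ _).symm)
    exact Nat.eq_of_mul_eq_mul_left hp.out.pos ((mul_assoc _ _ _).symm.trans this)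
  have f := h.one_lt_card_H (commutator_eq_top_of_simple hG)
  have g : Nat.card h.H = 2 :=
    ((Nat.dvd_prime Nat.prime_two).1 (Dvd.intro_left _ e)).resolve_left (by omega)
  rw [g] at e
  exact ⟨z, h, card_eq_one.1 (by omega), g⟩

end IX
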