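import Mathlib

/-! Størmer's theorem for the primes 2, 3, 5, 7. -/

set_option autoImplicit false

namespace IX.St
open Pell

/-- the Lucas sequence with given starting values -/
def lu (a u v : ℕ) : ℕ → ℕ
  | 0 => u
  | 1 => v
  | n + 2 => 2 * a * lu a u v (n + 1) - lu a u v n

theorem yn_eq {a : ℕ} (a1 : 1 < a) : ∀ n, yn a1 n = lu a 0 1 n
  | 0 => rfl
  | 1 => yn_one a1
  | n + 2 => by rw [lu, ← yn_eq a1 n, ← yn_eq a1 (n + 1), ← yn_succ_succ]; omega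

theorem xn_eq {a : ℕ} (a1 : 1 < a) : ∀ n, xn a1 n = lu a 1 a n
  | 0 => rfl
  | 1 => xn_one a1
  | n + 2 => by rw [lu, ← xn_eq a1 n, ← xn_eq a1 (n + 1), ← xn_succ_succ]; omega

theorem dvd_gcd_yn {a p : ℕ} (a1 : 1 < a) (hp : p.Prime) (m n : ℕ) :
    p ∣ yn a1 m → p ∣ yn a1 n → p ∣ yn a1 (m.gcd n) := by
  induction m, n using Nat.gcd.induction with
  | H0 n => simp
  | H1 m n _ ih =>
    intro h1 h2
    rw [Nat.gcd_rec]
    refine ih ?_ h1
    have h3 : p ∣ yn a1 (m * (n / m)) := h1.trans (y_mul_dvd a1 _ _)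
    rw [← Nat.div_add_mod n m, yn_add] at h2
    have h4 := (Nat.dvd_add_left (h3.mul_right _)).1 h2
    exact ((Nat.Prime.dvd_mul hp).1 h4).resolve_left fun h5 =>
      hp.one_lt.ne' (Nat.eq_one_of_dvd_coprimes (xy_coprime a1 _) h5 h3)

/-- test for being non-smooth -/
def ns (w : ℕ) : Prop := w / w.gcd (210 ^ 99) ≠ 1 ∧ (w / w.gcd (210 ^ 99)).gcd 210 = 1

instance (w : ℕ) : Decidable (ns w) := by unfold ns; infer_instance

theorem not_ns {w N : ℕ} (h : w ∣ 210 ^ N) : ¬ ns w := fun ⟨h1, h2⟩ =>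
  h1 (Nat.eq_one_of_dvd_coprimes (Nat.Coprime.pow_right N h2) dvd_rfl
    ((Nat.div_dvd_of_dvd (Nat.gcd_dvd_left _ _)).trans h))

/-- fundamental solutions -/
def T : List (ℕ × ℕ × ℕ) := [(2, 3, 2), (3, 2, 1), (5, 9, 4), (6, 5, 2), (7, 8, 3), (10, 19, 6),
  (14, 15, 4), (15, 4, 1), (21, 55, 12), (30, 11, 2), (35, 6, 1), (42, 13, 2), (70, 251, 30),
  (105, 41, 4), (210, 29, 2)]

/-- the list -/
def L : List ℕ := [1, 2, 3, 4, 5, 6, 7, 8, 9, 14, 15, 20, 24, 27, 35, 48, 49, 63, 80, 125, 224,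
  2400, 4374]

theorem chk : ∀ t ∈ T, 1 < t.2.1 ∧ 0 < t.2.2 ∧ t.2.1 * t.2.1 = 1 + t.1 * (t.2.2 * t.2.2) ∧
    (∀ x < t.2.1, ∀ y < t.2.2, x * x = 1 + t.1 * (y * y) → x ≤ 1) ∧
    (∀ p ∈ [2, 3, 5, 7], ∃ r ∈ [2, 3, 4, 5, 7], lu t.2.1 0 1 r % p = 0) ∧
    (∀ k ∈ [5, 7, 8, 9], ns (lu t.2.1 0 1 k)) ∧
    ∀ k ∈ [1, 2, 3, 4, 6, 12], ns (lu t.2.1 0 1 k) ∨ lu t.2.1 1 t.2.1 k % 2 = 0 ∨
      lu t.2.1 1 t.2.1 k / 2 ∈ L := by decide +kernel

theorem fund {d a b X Y : ℕ} (a1 : 1 < a) (b0 : 0 < b) (e : a * a = 1 + d * (b * b))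
    (m : ∀ x < a, ∀ y < b, x * x = 1 + d * (y * y) → x ≤ 1) (h : X * X = 1 + d * (Y * Y)) :
    ∃ k, X = xn a1 k ∧ Y = b * yn a1 k := by
  let s : Solution₁ (d : ℤ) := Solution₁.mk a b (by zify at e; linear_combination e)
  let t : Solution₁ (d : ℤ) := Solution₁.mk X Y (by zify at h; linear_combination h)
  have hs : IsFundamental s := by
    refine ⟨by simpa [s] using a1, by simpa [s] using b0, fun {c} hc => ?_⟩
    by_contra! hlt
    have c1 := c.prop_x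
    have c2 : c.x.natAbs * c.x.natAbs = 1 + d * (c.y.natAbs * c.y.natAbs) := by
      zify; rw [abs_mul_abs_self, abs_mul_abs_self]; linear_combination c1
    have c3 : c.x.natAbs < a := by simp only [s, Solution₁.x_mk] at hlt; omega
    have := m _ c3 c.y.natAbs (by
      by_contra! hb
      have := Nat.mul_le_mul_left d (Nat.mul_le_mul hb hb)
      have := Nat.mul_lt_mul'' c3 c3
      omega) c2
    omega
  obtain ⟨n, hn⟩ := hs.eq_pow_of_nonneg (a := t) (by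
    simp only [t, Solution₁.x_mk]; rcases X with _ | X <;> simp at h ⊢; omega) (by simp [t])
  have dv : ∀ n : ℕ, (b : ℤ) ∣ (s ^ n).y := fun n => by
    induction n with
    | zero => simp
    | succ n ih =>
      rw [pow_succ, Solution₁.y_mul]
      exact dvd_add (dvd_mul_left _ _) (ih.mul_right _)
  have := dv n
  rw [← hn] at this
  obtain ⟨W, rfl⟩ : b ∣ Y := Int.natCast_dvd_natCast.1 this
  obtain ⟨k, h1, h2⟩ := eq_pell a1 (x := X) (y := W) (show X * X - (a * a - 1) * W * W = 1 by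
    rw [h, e, Nat.add_sub_cancel_left, show d * (b * W * (b * W)) = d * (b * b) * W * W by ring]
    omega)
  exact ⟨k, h1, h2 ▸ rfl⟩

theorem main {d n Y N : ℕ} (hd : d ∈ T.map (·.1)) (Y0 : Y ∣ 210 ^ N)
    (h : (2 * n + 1) * (2 * n + 1) = 1 + d * (Y * Y)) : n ∈ L := by
  obtain ⟨⟨d, a, b⟩, ht, rfl⟩ := List.mem_map.1 hd
  obtain ⟨a1, b0, e, m, r, c, f⟩ := chk _ ht
  obtain ⟨k, h1, h2⟩ := fund a1 b0 e m h
  have sm : ∀ j, j ∣ k → yn a1 j ∣ 210 ^ N := fun j hj =>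
    ((y_dvd_iff a1 _ _).2 hj).trans ((Dvd.intro_left _ h2.symm).trans Y0)
  have nd : ∀ j ∈ [5, 7, 8, 9], ¬ j ∣ k := fun j hj hk =>
    not_ns (yn_eq a1 j ▸ sm j hk) (c j hj)
  have big : ∀ l : ℕ, l.Prime → l ∣ k → l < 11 := fun l hl hk => by
    by_contra! hb
    have g := yn_ge_n a1 l
    have pp := Nat.minFac_prime (n := yn a1 l) (by omega)
    have p1 := pp.dvd_of_dvd_pow ((Nat.minFac_dvd _).trans (sm l hk))
    have p2 : (yn a1 l).minFac ∈ [2, 3, 5, 7] := by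
      rw [show 210 = 2 * 3 * 5 * 7 from rfl] at p1
      simp only [pp.dvd_mul, Nat.prime_dvd_prime_iff_eq pp Nat.prime_two,
        Nat.prime_dvd_prime_iff_eq pp Nat.prime_three, Nat.prime_dvd_prime_iff_eq pp Nat.prime_five,
        Nat.prime_dvd_prime_iff_eq pp Nat.prime_seven] at p1
      simp only [List.mem_cons, List.not_mem_nil, or_false]; tauto
    obtain ⟨q, hq, hq'⟩ := r _ p2
    have := dvd_gcd_yn a1 pp q l (yn_eq a1 q ▸ Nat.dvd_of_mod_eq_zero hq') (Nat.minFac_dvd _)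
    rw [show q.gcd l = 1 from ((Nat.Prime.coprime_iff_not_dvd hl).2 fun c => by
      have := Nat.le_of_dvd (by simp at hq; omega) c
      simp at hq; omega).symm, yn_one] at this
    exact pp.one_lt.ne' (Nat.dvd_one.1 this)
  have k12 : k ∣ 12 := (Nat.dvd_iff_prime_pow_dvd_dvd _ _).2 fun l i hl hi => by
    rcases i with _ | i
    · simp
    have l1 : l ∣ k := (dvd_pow_self l (by omega)).trans hi
    have l2 := big l hl l1
    have n5 := nd 5 (by simp)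
    have n7 := nd 7 (by simp)
    interval_cases l <;> try first | exact absurd hl (by decide) | contradiction
    · rcases i with _ | _ | i
      · norm_num
      · norm_num
      · exact absurd ((pow_dvd_pow 2 (show 3 ≤ _ by omega)).trans hi) (nd 8 (by simp))
    · rcases i with _ | i
      · norm_num
      · exact absurd ((pow_dvd_pow 3 (show 2 ≤ _ by omega)).trans hi) (nd 9 (by simp))
  have k6 : k ∈ [1, 2, 3, 4, 6, 12] := by
    have := Nat.le_of_dvd (by norm_num) k12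
    interval_cases k <;> simp at k12 ⊢
  rcases f k k6 with g | g | g
  · exact absurd g (not_ns (yn_eq a1 k ▸ sm k dvd_rfl))
  · rw [← xn_eq a1, ← h1] at g; omega
  · rw [← xn_eq a1, ← h1] at g
    rwa [show (2 * n + 1) / 2 = n by omega] at g

end IX.St

namespace IX

theorem stormer (n a b c d a' b' c' d' : ℕ) (h : n = 2 ^ a * 3 ^ b * 5 ^ c * 7 ^ d)
    (h' : n + 1 = 2 ^ a' * 3 ^ b' * 5 ^ c' * 7 ^ d') :
    n ∈ [1, 2, 3, 4, 5, 6, 7, 8, 9, 14, 15, 20, 24, 27, 35, 48, 49, 63, 80, 125, 224, 2400,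
      4374] := by
  have e : (2 * n + 1) * (2 * n + 1) =
      1 + 2 ^ (a + a' + 2) * 3 ^ (b + b') * 5 ^ (c + c') * 7 ^ (d + d') := by
    rw [show (2 * n + 1) * (2 * n + 1) = 1 + 4 * (n * (n + 1)) by ring, h']
    nth_rewrite 1 [h]
    ring
  generalize a + a' + 2 = A, b + b' = B, c + c' = C, d + d' = D at e
  have s : ∀ p E : ℕ, p ^ E = p ^ (E % 2) * (p ^ (E / 2) * p ^ (E / 2)) := fun p E => by
    rw [← pow_add, ← pow_add]; congr 1; omega
  set Y := 2 ^ (A / 2) * 3 ^ (B / 2) * 5 ^ (C / 2) * 7 ^ (D / 2) with hY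
  have e2 : (2 * n + 1) * (2 * n + 1) =
      1 + (2 ^ (A % 2) * 3 ^ (B % 2) * 5 ^ (C % 2) * 7 ^ (D % 2)) * (Y * Y) := by
    rw [e, s 2 A, s 3 B, s 5 C, s 7 D, hY]; ring
  have Y0 : Y ∣ 210 ^ (A + B + C + D) := by
    rw [show 210 = 2 * 3 * 5 * 7 from rfl, mul_pow, mul_pow, mul_pow]
    exact mul_dvd_mul (mul_dvd_mul (mul_dvd_mul (pow_dvd_pow _ (by omega))
      (pow_dvd_pow _ (by omega))) (pow_dvd_pow _ (by omega))) (pow_dvd_pow _ (by omega))
  have Yp : 0 < Y := by positivity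
  by_cases h1 : 2 ^ (A % 2) * 3 ^ (B % 2) * 5 ^ (C % 2) * 7 ^ (D % 2) = 1
  · rw [h1] at e2
    rcases le_or_gt (2 * n + 1) Y with l | l <;> nlinarith
  refine St.main ?_ Y0 e2
  rcases Nat.mod_two_eq_zero_or_one A with e1 | e1 <;>
  rcases Nat.mod_two_eq_zero_or_one B with e3 | e3 <;>
  rcases Nat.mod_two_eq_zero_or_one C with e5 | e5 <;>
  rcases Nat.mod_two_eq_zero_or_one D with e7 | e7 <;>
  rw [e1, e3, e5, e7] at h1 ⊢ <;> first | exact absurd rfl h1 | decide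

end IX
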