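import Cfsg.Agent.IX.Stmt

/-! Four numerical cases die by the class-sum identity. -/

set_option autoImplicit false

namespace IX
open Cfsg H8 H2 Subgroup

variable {G : Type*} [Group G] [Fintype G] {p x y w k : ℕ} {s : ℤ} {t : G} {α : G → ℤ}

theorem class_sum_mem (M : AddSubmonoid ℤ) (f : G → ℤ) (hf : ∀ u v, IsConj u v → f u = f v)
    (h : ∀ u, ((Cx u).index : ℤ) * f u ∈ M) : ∑ u, f u ∈ M := by
  classical
  rw [← Finset.sum_fiberwise Finset.univ ConjClasses.mk]
  refine sum_mem fun c _ => ?_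
  obtain ⟨u, rfl⟩ := ConjClasses.exists_rep c
  rw [Finset.sum_congr rfl (g := fun _ => f u) fun v hv =>
    hf _ _ (ConjClasses.mk_eq_mk_iff_isConj.1 (Finset.mem_filter.1 hv).2), Finset.sum_const,
    nsmul_eq_mul]
  have : (Finset.univ.filter fun v => ConjClasses.mk v = ConjClasses.mk u).card = (Cx u).index := by
    rw [index_centralizer_eq, Nat.card_eq_fintype_card, Fintype.card_subtype]
    congr 1
    ext v
    simp only [Finset.mem_filter, ConjClasses.mk_eq_mk_iff_isConj, isConj_comm (g := v)]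
  rw [this]
  exact h u

/-- the admissible weights -/
def PW (m lo tot n : ℤ) : Prop := 0 ≤ n ∧ (n % m = 0 ∨ lo ≤ n ∧ n % m ≠ tot % m ∨ tot < n)

instance instDecPW (m lo tot n : ℤ) : Decidable (PW m lo tot n) := by unfold PW; infer_instance

/-- the finite check -/
def SumOk (p x y k : ℕ) (s m lo : ℤ) : Prop := ∀ d ∈ List.range (2 * x), ∀ c ∈ List.range (d + 1),
  d % c = 0 → ∀ b ∈ List.range (k + 1), k % b = 0 → p * x * y * k ^ 2 % (b * c) = 0 →
  b * c % p ≠ 0 → 2 + 2 * ((x - d : ℤ) * (x - d)) + (p - 1) * ((x - d + s) * (x - d + s)) ≤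
    2 * (b * c : ℕ) → ((p * x * y * k ^ 2 / (b * c) : ℕ) * (x - d : ℤ)) % x = 0 →
  ((p * x * y * k ^ 2 / (b * c) : ℕ) * (x - d + s : ℤ)) % y = 0 →
  PW m lo (x * y * (k ^ 2 - 1)) ((p * x * y * k ^ 2 / (b * c) : ℕ) * ((x - d) * (x - d + s)))

instance instDecSumOk (p x y k : ℕ) (s m lo : ℤ) : Decidable (SumOk p x y k s m lo) := by
  unfold SumOk; infer_instance

theorem Dt.sum_gen (D : Dt G p x y w k s t α) {m lo : ℤ} (h : SumOk p x y k s m lo)
    (h1 : x * y * (k ^ 2 - 1) < 2 * lo) (h2 : (x * y * (k ^ 2 - 1) : ℤ) % m ≠ 0) : False := by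
  classical
  have hs := D.sum
  generalize hT : (x * y * (k ^ 2 - 1) : ℤ) = T at h1 h2 hs
  let M : AddSubmonoid ℤ := ⟨⟨{n | PW m lo T n}, fun {a b} ha hb => by
    obtain ⟨a0, ha⟩ := ha
    obtain ⟨b0, hb⟩ := hb
    refine ⟨add_nonneg a0 b0, ?_⟩
    rcases ha with ha | ha | ha <;> rcases hb with hb | hb | hb
    · exact .inl (by rw [Int.add_emod, ha, hb]; simp)
    · exact .inr (.inl ⟨by omega, by rw [Int.add_emod, ha]; simpa using hb.2⟩)
    · exact .inr (.inr (by omega))
    · exact .inr (.inl ⟨by omega, by rw [Int.add_emod, hb]; simpa using ha.2⟩)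
    all_goals exact .inr (.inr (by omega))⟩, ⟨le_rfl, .inl (by simp)⟩⟩
  have k0 : 0 < k := Nat.pos_of_ne_zero fun e => D.np (by simp [e])
  have := class_sum_mem M (fun u => if u ≠ 1 ∧ ¬ p ∣ orderOf u then α u * (α u + s) else 0)
    (fun u v e => by
      obtain ⟨g, rfl⟩ := isConj_iff.1 e
      rw [← D.cls _ _ e, ← MulAut.conj_apply, MulEquiv.orderOf_eq]
      simp) fun u => by
      split_ifs with c
      swap
      · rw [mul_zero]; exact zero_mem _
      have l := abs_lt.1 (D.lt u c.1 c.2).1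
      obtain ⟨d, hd⟩ : ∃ d : ℕ, α u = x - d := ⟨(x - α u).toNat, by omega⟩
      have dv := D.dv u c.1 c.2
      rw [hd, sub_sub_cancel] at dv
      obtain ⟨b, e, hb, he, hc⟩ := exists_dvd_and_dvd_of_dvd_mul
        (show Nat.card (Cx u) ∣ k * d by exact_mod_cast dv)
      have i := (Cx u).card_mul_index
      have c0 : 0 < b * e := hc ▸ Nat.card_pos
      rw [D.card, hc] at i
      have i' : (Cx u).index = p * x * y * k ^ 2 / (b * e) := by
        rw [← i, Nat.mul_div_cancel_left _ c0]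
      have nm := D.nm u c.1 c.2
      have om := D.om u c.2
      have cp := D.cp u c.1 c.2
      rw [hc] at cp
      rw [hd, hc] at nm
      rw [hd, i'] at om
      show PW _ _ _ _
      rw [hd, i', ← hT]
      exact h d (List.mem_range.2 (by omega)) e
        (List.mem_range.2 (Nat.lt_succ_of_le (Nat.le_of_dvd (by omega) he)))
        (Nat.mod_eq_zero_of_dvd he) b (List.mem_range.2 (Nat.lt_succ_of_le (Nat.le_of_dvd k0 hb)))
        (Nat.mod_eq_zero_of_dvd hb) (by rw [← i, Nat.mul_mod_right])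
        (fun z => cp (Nat.dvd_of_mod_eq_zero z)) nm (Int.emod_eq_zero_of_dvd om.1)
        (Int.emod_eq_zero_of_dvd om.2)
  rw [← Finset.sum_filter, hs] at this
  rcases this.2 with c | c | c
  exacts [h2 c, c.2 rfl, lt_irrefl _ c]

theorem sumOk1 : SumOk 5 49 48 9 (-1) (5 * 11760) (9 * 11760) := by decide +kernel
theorem sumOk2 : SumOk 13 64 63 25 (-1) (5 * 52416) (44 * 52416) := by decide +kernel
theorem sumOk3 : SumOk 13 64 63 105 (-1) (7 * 52416) (450 * 52416) := by decide +kernel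
theorem sumOk4 : SumOk 17 35 36 120 1 (5 * 21420) (504 * 21420) := by decide +kernel

/-- the four kills -/
theorem Dt.sum_kill (D : Dt G p x y w k s t α) :
    (p, x, y, k) ∉ [(5, 49, 48, 9), (13, 64, 63, 25), (13, 64, 63, 105), (17, 35, 36, 120)] := by
  have hy := D.hy
  simp only [List.mem_cons, List.not_mem_nil, or_false, Prod.mk.injEq]
  rintro (⟨rfl, rfl, rfl, rfl⟩ | ⟨rfl, rfl, rfl, rfl⟩ | ⟨rfl, rfl, rfl, rfl⟩ | ⟨rfl, rfl, rfl, rfl⟩)
  · obtain rfl : s = -1 := by omega
    exact D.sum_gen sumOk1 (by decide) (by decide)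
  · obtain rfl : s = -1 := by omega
    exact D.sum_gen sumOk2 (by decide) (by decide)
  · obtain rfl : s = -1 := by omega
    exact D.sum_gen sumOk3 (by decide) (by decide)
  · obtain rfl : s = 1 := by omega
    exact D.sum_gen sumOk4 (by decide) (by decide)

end IX
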