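import Cfsg.Agent.IX.Stmt

/-! The case `|G| = 11760` of the index two theorem. -/

set_option autoImplicit false

namespace IX
open Cfsg H8 H2 Subgroup
open scoped Classical

variable {G : Type*} [Group G] [Fintype G] {p x y w : ℕ} {s : ℤ} {t : G} {α : G → ℤ}

namespace T7

theorem val (D : Dt G p x y w 1 s t α) {u : G} (h1 : u ≠ 1) (h2 : ¬ p ∣ orderOf u) :
    α u = 0 ∨ α u = -s := by
  have h := D.sum
  rw [show ((x : ℤ) * y * (((1 : ℕ) : ℤ) ^ 2 - 1)) = 0 by simp,
    Finset.sum_eq_zero_iff_of_nonneg fun v _ => by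
      rcases D.hs with e | e <;> rw [e] <;> rcases lt_trichotomy (α v) 0 with h | h | h <;>
        nlinarith] at h
  rcases mul_eq_zero.1 (h u (by simp [h1, h2])) with e | e
  · exact .inl e
  · exact .inr (by omega)

theorem cnt0 (D : Dt G p x y w 1 s t α) :
    ((Finset.univ.filter fun u : G => α u = 0).card : ℤ) + 1 = x * x := by
  have s2 : s * s = 1 := by rcases D.hs with e | e <;> simp [e]
  have h : ∑ u : G, (α u * α u + if α u = 0 then 1 else 0) =
      ∑ u : G, (1 + if u = 1 then (x * x - 1 : ℤ) else 0) := Finset.sum_congr rfl fun u _ => by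
    have x2 := D.x2
    by_cases h1 : u = 1
    · rw [h1, D.one, if_neg (by omega), if_pos rfl]; ring
    rw [if_neg h1]
    have : α u = 0 ∨ α u * α u = 1 := by
      by_cases h2 : p ∣ orderOf u
      · exact .inr (by rw [D.sing u h2, s2])
      · exact (val D h1 h2).imp_right fun e => by rw [e, neg_mul_neg, s2]
    rcases this with e | e
    · simp [e]
    · rw [e, if_neg (by rintro e'; simp [e'] at e)]
  rw [Finset.sum_add_distrib, Finset.sum_add_distrib, D.nrm, Finset.sum_boole] at h
  simp only [Finset.sum_const, Finset.card_univ, Finset.sum_ite_eq', Finset.mem_univ, if_true,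
    nsmul_eq_mul, mul_one, Nat.card_eq_fintype_card] at h
  omega

end T7

theorem Dt.not_11760 (D : Dt G 5 49 48 w 1 s t α) : False := by
  have hs : s = -1 := by have := D.hy; omega
  have hN : Nat.card G = 11760 := D.card
  haveI : Fact (Nat.Prime 7) := ⟨by norm_num⟩
  have cP : ∀ P : Sylow 7 G, Nat.card (P : Subgroup G) = 7 ^ 2 := fun P => by
    rw [P.card_eq_multiplicity, hN]; decide +kernel
  have k0 : ∀ u : G, α u = 0 → u ≠ 1 ∧ Nat.card (Cx u) ∣ 49 := fun u e => by
    have h1 : u ≠ 1 := by rintro rfl; have := D.one; omega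
    have := D.dv u h1 fun h => by have := D.sing u h; omega
    rw [e] at this
    exact ⟨h1, Int.natCast_dvd_natCast.1 (by simpa using this)⟩
  have k1 : ∀ (P : Sylow 7 G) (u : G), u ∈ (P : Subgroup G) → u ≠ 1 →
      α u = 0 ∧ (P : Subgroup G) = Cx u := fun P u hu h1 => by
    have le : (P : Subgroup G) ≤ Cx u := fun g hg => mem_Cx.2 (congrArg Subtype.val
      ((IsPGroup.isMulCommutative_of_card_eq_prime_sq (cP P)).1.1 ⟨g, hg⟩ ⟨u, hu⟩))
    have o := cP P ▸ orderOf_dvd_natCard _ hu
    have r : ¬ 5 ∣ orderOf u := fun h => by have := h.trans o; omega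
    have d := cP P ▸ card_dvd_of_le le
    have a : α u = 0 := (T7.val D h1 r).resolve_right fun e => by
      have := D.dv u h1 r
      rw [e, hs] at this
      have h48 : Nat.card (Cx u) ∣ 48 := Int.natCast_dvd_natCast.1 (by simpa using this)
      have := d.trans h48
      omega
    exact ⟨a, eq_of_le_of_card_ge le (cP P ▸ Nat.le_of_dvd (by norm_num) (k0 u a).2)⟩
  have e : (Finset.univ.filter fun u : G => α u = 0) = Finset.univ.biUnion fun P : Sylow 7 G =>
      (Finset.univ.filter fun u : G => u ∈ (P : Subgroup G)).erase 1 := by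
    ext u
    simp only [Finset.mem_filter, Finset.mem_univ, true_and, Finset.mem_biUnion, Finset.mem_erase]
    refine ⟨fun h => ?_, fun ⟨P, h1, h2⟩ => (k1 P u h2 h1).1⟩
    obtain ⟨i, -, hi⟩ := (Nat.dvd_prime_pow (p := 7) (m := 2) Fact.out).1 (k0 u h).2
    obtain ⟨P, hP⟩ := (IsPGroup.of_card hi).exists_le_sylow
    exact ⟨P, (k0 u h).1, hP (mem_Cx.2 rfl)⟩
  have c := T7.cnt0 D
  rw [e, Finset.card_biUnion fun P _ Q _ h => Finset.disjoint_left.2 fun u h1 h2 => h (by
    simp only [Finset.mem_filter, Finset.mem_univ, true_and, Finset.mem_erase] at h1 h2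
    exact Sylow.ext ((k1 P u h1.2 h1.1).2.trans (k1 Q u h2.2 h2.1).2.symm)),
    Finset.sum_congr rfl (g := fun _ => 48) fun P _ => by
      rw [Finset.card_erase_of_mem (by simp [one_mem]), ← Fintype.card_subtype,
        ← Nat.card_eq_fintype_card]
      exact congrArg (· - 1) (cP P)] at c
  obtain ⟨P⟩ : Nonempty (Sylow 7 G) := inferInstance
  have d := P.card_dvd_index
  have i := (P : Subgroup G).card_mul_index
  rw [cP, hN] at i
  rw [show (P : Subgroup G).index = 240 by omega, Nat.card_eq_fintype_card] at d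
  simp only [Finset.sum_const, Finset.card_univ, smul_eq_mul] at c
  rw [show Fintype.card (Sylow 7 G) = 50 by omega] at d
  omega

end IX
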