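import Cfsg.Agent.IX.Id
import Cfsg.Agent.IX.St
import Cfsg.Agent.IX.Fr
import Cfsg.Agent.IX.Ev
import Cfsg.Agent.IX.T7
import Cfsg.Agent.IX.Ct
import Cfsg.Agent.IX.Sum

/-! Glue for S3251. -/

set_option autoImplicit false

namespace IX
open Cfsg H8 H2 Subgroup

/-- the numerical possibilities -/
def LM : List (ℕ × ℕ × ℕ × ℕ × ℕ) := [
  (5, 4, 3, 4, 1), (5, 6, 7, 8, 4), (7, 8, 9, 8, 1), (5, 9, 8, 8, 1), (7, 15, 16, 16, 1), (17,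
  16, 15, 16, 1), (19, 20, 21, 20, 1), (11, 21, 20, 20, 1), (11, 21, 20, 20, 45), (23, 24, 25,
  24, 1), (13, 25, 24, 24, 1), (13, 27, 28, 28, 1), (13, 27, 28, 28, 25), (29, 28, 27, 28, 1),
  (17, 35, 36, 36, 1), (17, 35, 36, 32, 120), (37, 36, 35, 36, 1), (47, 48, 49, 48, 1), (5,
  49, 48, 48, 1), (5, 49, 48, 48, 9), (31, 63, 64, 64, 1), (5, 64, 63, 64, 1), (13, 64, 63,
  64, 1), (13, 64, 63, 64, 25), (13, 64, 63, 64, 105), (79, 80, 81, 80, 1), (41, 81, 80, 80,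
  1), (223, 224, 225, 224, 1), (113, 225, 224, 224, 1), (2399, 2400, 2401, 2400, 1), (1201,
  2401, 2400, 2400, 1)]

theorem lm_chk : ∀ a ∈ LM, (a.2.2.2.2 * a.2.2.2.1 ∈ [4, 8, 16, 20, 28, 32, 36, 64, 80, 700, 900] ∧
    a.1 * a.2.1 * a.2.2.1 * a.2.2.2.2 ^ 2 ∈ OL) ∨
    (a.2.2.2.2 = 1 ∧ a.2.2.1 = a.2.1 + 1 ∧ a.2.1 = a.1 + 1 ∧ a.2.2.2.1 = a.2.1 ∧
      (a.2.1 % 3 = 0 ∨ a.2.1 % 7 = 0)) ∨
    (a.2.2.2.2 = 1 ∧ a.2.1 = a.2.2.1 + 1 ∧ a.2.1 + 1 = 2 * a.1 ∧ a.2.2.2.1 = a.2.2.1 ∧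
      a.1 * a.2.1 * a.2.2.1 * a.2.2.2.2 ^ 2 ∈ OL) ∨ a = (5, 49, 48, 48, 1) ∨
    a ∈ [(5, 49, 48, 48, 9), (13, 64, 63, 64, 25), (13, 64, 63, 64, 105), (17, 35, 36, 32, 120)] := by
  decide +kernel

theorem smooth {n a b c d : ℕ} (h : n ∣ 2 ^ a * 3 ^ b * 5 ^ c * 7 ^ d) :
    ∃ a' b' c' d', n = 2 ^ a' * 3 ^ b' * 5 ^ c' * 7 ^ d' := by
  obtain ⟨m, n7, h1, h7, rfl⟩ := exists_dvd_and_dvd_of_dvd_mul h
  obtain ⟨m', n5, h4, h5, rfl⟩ := exists_dvd_and_dvd_of_dvd_mul h1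
  obtain ⟨n2, n3, h2, h3, rfl⟩ := exists_dvd_and_dvd_of_dvd_mul h4
  obtain ⟨a', -, rfl⟩ := (Nat.dvd_prime_pow Nat.prime_two).1 h2
  obtain ⟨b', -, rfl⟩ := (Nat.dvd_prime_pow Nat.prime_three).1 h3
  obtain ⟨c', -, rfl⟩ := (Nat.dvd_prime_pow Nat.prime_five).1 h5
  obtain ⟨d', -, rfl⟩ := (Nat.dvd_prime_pow (by norm_num)).1 h7
  exact ⟨_, _, _, _, rfl⟩

variable {G : Type*} [Group G] [Fintype G] {p x y w k : ℕ} {s : ℤ} {t : G} {α : G → ℤ}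

theorem npc_conj {u : G} (h : IsConj t u) (ht : HasNormalPComplement 2 (Cx t)) :
    HasNormalPComplement 2 (Cx u) := by
  obtain ⟨c, rfl⟩ := isConj_iff.1 h
  refine H7.hasNormalPComplement_iff.2 (((H7.hasNormalPComplement_iff.1 ht).map
    (MulAut.conj c).toMonoidHom).mono fun g hg => ⟨c⁻¹ * g * c, mem_Cx.2 ?_, by simp [mul_assoc]⟩)
  have := mem_Cx.1 hg
  calc c⁻¹ * g * c * t = c⁻¹ * (g * (c * t * c⁻¹)) * c := by group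
    _ = _ := by rw [this]; group

namespace Dt
variable (D : Dt G p x y w k s t α)
include D

theorem xyk {a b c d : ℕ} (h : Nat.card G = 2 ^ a * 3 ^ b * 5 ^ c * 7 ^ d * p) :
    x * y * k ^ 2 = 2 ^ a * 3 ^ b * 5 ^ c * 7 ^ d :=
  Nat.eq_of_mul_eq_mul_left D.pp.pos (by rw [mul_comm p (_ * 7 ^ d), ← h, D.card]; ring)

theorem min_mem {a b c d : ℕ} (h : Nat.card G = 2 ^ a * 3 ^ b * 5 ^ c * 7 ^ d * p) :
    min x y ∈ SP := by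
  have e := D.xyk h
  obtain ⟨a1, b1, c1, d1, hx⟩ := smooth (n := x) ⟨y * k ^ 2, by rw [← e]; ring⟩
  obtain ⟨a2, b2, c2, d2, hy⟩ := smooth (n := y) ⟨x * k ^ 2, by rw [← e]; ring⟩
  have := D.hy
  rcases D.hs with rfl | rfl
  · rw [min_eq_left (by omega)]
    exact stormer x _ _ _ _ a2 b2 c2 d2 hx (by omega)
  · rw [min_eq_right (by omega)]
    exact stormer y _ _ _ _ a1 b1 c1 d1 hy (by omega)

theorem k_smooth {a b c d : ℕ} (h : Nat.card G = 2 ^ a * 3 ^ b * 5 ^ c * 7 ^ d * p) :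
    ∃ a' b' c' d', k = 2 ^ a' * 3 ^ b' * 5 ^ c' * 7 ^ d' :=
  smooth ⟨x * y * k, by rw [← D.xyk h]; ring⟩

/-- the case split -/
theorem split [IsSimpleGroup G] (hG : ¬ IsMulCommutative G) (hL : (p, x, y, w, k) ∈ LM) :
    Concl G := by
  have fin : HasNormalPComplement 2 (Cx t) → p * x * y * k ^ 2 ∈ OL → Concl G := fun h1 h2 =>
    ident hG (fun u hu => npc_conj (D.cj u hu) h1) (D.card ▸ h2)
  have hy := D.hy
  rcases lm_chk _ hL with ⟨h1, h2⟩ | ⟨h1, h2, h3, h4, h5⟩ | ⟨h1, h2, h3, h4, h5⟩ | h | h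
  · refine fin (fr (t := ⟨t, self_mem_Cx⟩) (mem_center_iff.2 fun g => Subtype.ext (mem_Cx.1 g.2))
      (by rw [← orderOf_coe]; exact D.ot) (D.ct ▸ h1)) h2
  · dsimp only at h1 h2 h3 h4 h5
    subst h1
    rcases h5 with h5 | h5
    · exact (D.ev (by omega) h3 h4 Nat.prime_three (by decide) (by omega)).elim
    · exact (D.ev (q := 7) (by omega) h3 h4 (by norm_num) (by decide) (by omega)).elim
  · dsimp only at h1 h2 h3 h4 h5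
    exact fin (D.ct' h1 (by omega) h3 h4) h5
  · simp only [Prod.mk.injEq] at h
    obtain ⟨rfl, rfl, rfl, rfl, rfl⟩ := h
    exact D.not_11760.elim
  · refine absurd ?_ D.sum_kill
    simp only [List.mem_cons, Prod.mk.injEq, List.not_mem_nil, or_false] at h ⊢
    omega

end Dt
end IX
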