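import Cfsg.Agent.IX.Num0

/-! The numerical sieve applied to the data. -/

set_option autoImplicit false

namespace IX
open Cfsg H8 H2 Subgroup

variable {G : Type*} [Group G] [Fintype G] {p x y w k : ℕ} {s : ℤ} {t : G} {α : G → ℤ}

theorem pt_dvd (q n : ℕ) : pt q n ∣ n := Nat.gcd_dvd_left _ _

theorem pt_pow {q : ℕ} (hq : q.Prime) (n : ℕ) : ∃ j, pt q n = q ^ j := by
  obtain ⟨j, -, h⟩ := (Nat.dvd_prime_pow hq).1 (Nat.gcd_dvd_right n (q ^ 70))
  exact ⟨j, h⟩

theorem pt_cop {q m : ℕ} (hq : q.Prime) (n : ℕ) (h : ¬ q ∣ m) : (pt q n).Coprime m := by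
  obtain ⟨j, e⟩ := pt_pow hq n
  exact e ▸ Nat.Coprime.pow_left j ((Nat.Prime.coprime_iff_not_dvd hq).2 h)

theorem card_Cx_conj {u v : G} (h : IsConj u v) : Nat.card (Cx u) = Nat.card (Cx v) := by
  have e : (Cx u).index = (Cx v).index := by
    rw [index_centralizer_eq, index_centralizer_eq]
    exact Nat.card_congr (Equiv.subtypeEquivRight fun g => ⟨h.symm.trans, h.trans⟩)
  have h1 := (Cx u).card_mul_index
  have h2 := (Cx v).card_mul_index
  rw [e, ← h2] at h1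
  exact Nat.eq_of_mul_eq_mul_right (index_Cx_pos v) h1

namespace Dt
variable (D : Dt G p x y w k s t α)
include D

theorem nn (u : G) : 0 ≤ α u * (α u + s) := by
  rcases D.hs with e | e <;> rw [e] <;> nlinarith [sq_nonneg (2 * α u + 1), sq_nonneg (2 * α u - 1),
    Int.one_le_abs (show 2 * α u + 1 ≠ 0 by omega), Int.one_le_abs (show 2 * α u - 1 ≠ 0 by omega),
    sq_abs (2 * α u + 1), sq_abs (2 * α u - 1)]

/-- the contribution of one class -/
theorem one_le {u : G} (u1 : u ≠ 1) (up : ¬ p ∣ orderOf u) :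
    (Cx u).index * (α u * (α u + s)) ≤ x * y * (k ^ 2 - 1) := by
  classical
  rw [← D.sum, index_centralizer_eq, Nat.card_eq_fintype_card, Fintype.card_subtype,
    ← nsmul_eq_mul, ← Finset.sum_const]
  rw [Finset.sum_congr rfl fun v hv => by rw [D.cls u v (Finset.mem_filter.1 hv).2]]
  refine Finset.sum_le_sum_of_subset_of_nonneg (fun v hv => ?_) fun v _ _ => D.nn v
  have h := (Finset.mem_filter.1 hv).2
  refine Finset.mem_filter.2 ⟨Finset.mem_univ _, fun e => u1 ?_, ?_⟩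
  · rw [e] at h; exact isConj_one_left.1 h
  · obtain ⟨c, rfl⟩ := isConj_iff.1 h
    rwa [← MulAut.conj_apply, MulEquiv.orderOf_eq]

theorem kpos : 0 < k := Nat.pos_of_ne_zero fun e => D.np (by simp [e])

theorem ok_of {q : ℕ} (hq : q.Prime) (qp : q ≠ p) {u : G} (ou : orderOf u = q)
    (iu : ¬ q ∣ (Cx u).index) {v : ℕ} (hv : (v : ℤ) = x - α u) :
    0 < v ∧ Nat.card (Cx u) ∣ k * v ∧ ok p x y k q v = true := by
  have u1 : u ≠ 1 := fun e => hq.ne_one (by rw [← ou, e, orderOf_one])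
  have up : ¬ p ∣ orderOf u := fun h => qp ((Nat.prime_dvd_prime_iff_eq D.pp hq).1 (ou ▸ h)).symm
  have l := abs_lt.1 (D.lt u u1 up).1
  have v0 : 0 < v := by omega
  have d : Nat.card (Cx u) ∣ k * v := by
    have := D.dv u u1 up
    rw [← hv] at this
    exact_mod_cast this
  have le : (Nat.card (Cx u) : ℤ) ≤ k * v := by
    exact_mod_cast Nat.le_of_dvd (Nat.mul_pos D.kpos v0) d
  have ci := (Cx u).card_mul_index
  have ea : α u = x - v := by omega
  have eb : α u + s = y - v := by have := D.hy; omega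
  refine ⟨v0, d, ?_⟩
  simp only [ok, Bool.and_eq_true, beq_iff_eq, decide_eq_true_eq]
  refine ⟨⟨⟨⟨Nat.mod_eq_zero_of_dvd (Dvd.dvd.trans ?_ d), ?_⟩, ?_⟩, ?_⟩, ?_⟩
  · exact (pt_cop hq _ iu).dvd_of_dvd_mul_right (by rw [ci, D.card]; exact pt_dvd _ _)
  · rw [← ea]
    exact Int.emod_eq_zero_of_dvd ((Nat.isCoprime_iff_coprime.2 (pt_cop hq x iu)).dvd_of_dvd_mul_left
      ((Int.natCast_dvd_natCast.2 (pt_dvd q x)).trans (D.om u up).1))
  · rw [← eb]
    exact Int.emod_eq_zero_of_dvd ((Nat.isCoprime_iff_coprime.2 (pt_cop hq y iu)).dvd_of_dvd_mul_left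
      ((Int.natCast_dvd_natCast.2 (pt_dvd q y)).trans (D.om u up).2))
  · have := D.nm u u1 up
    rw [eb, ea] at this
    linarith
  · have h1 := D.one_le u1 up
    have h0 := D.nn u
    rw [eb, ea] at h1 h0
    have c : (Nat.card (Cx u) : ℤ) * (Cx u).index = p * x * y * k ^ 2 := by
      rw [D.card] at ci; exact_mod_cast ci
    have k1 : (1 : ℤ) ≤ k := by exact_mod_cast D.kpos
    have xy : (0 : ℤ) < x * y * k := by
      have := D.x2; have := D.y2; positivity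
    have k2 : (0 : ℤ) ≤ x * y * (k ^ 2 - 1) := by
      have : (0 : ℤ) ≤ k ^ 2 - 1 := by nlinarith
      positivity
    refine le_of_mul_le_mul_left ?_ xy
    calc (x * y * k : ℤ) * (p * k * ((x - v) * (y - v)))
        = Nat.card (Cx u) * ((Cx u).index * ((x - v) * (y - v))) := by
          rw [← mul_assoc (Nat.card (Cx u) : ℤ), c]; ring
      _ ≤ Nat.card (Cx u) * (x * y * (k ^ 2 - 1)) := by gcongr
      _ ≤ k * v * (x * y * (k ^ 2 - 1)) := by gcongr
      _ = _ := by ring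

theorem cen {q : ℕ} (hq : q.Prime) (qp : q ≠ p) (hg : q ∣ Nat.card G) : ∃ (u : G) (j : ℕ),
    orderOf u = q ∧ ¬ q ∣ (Cx u).index ∧ ((q * j : ℕ) : ℤ) = x - α u ∧ 0 < j ∧
    (q - 1) * j ≤ min x y ∧ Nat.card (Cx u) ∣ k * (q * j) ∧ ok p x y k q (q * j) = true := by
  have := Fact.mk hq
  obtain ⟨u, ou, iu⟩ := exists_central_of_prime (G := G) q hg
  obtain ⟨⟨j, hj⟩, h1, h2⟩ := D.pr u q hq qp ou
  have u1 : u ≠ 1 := fun e => hq.ne_one (by rw [← ou, e, orderOf_one])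
  have up : ¬ p ∣ orderOf u := fun h => qp ((Nat.prime_dvd_prime_iff_eq D.pp hq).1 (ou ▸ h)).symm
  have l := abs_lt.1 (D.lt u u1 up).1
  have q0 : (0 : ℤ) < q := by exact_mod_cast hq.pos
  have j0 : 0 < j := by
    by_contra! h
    nlinarith
  lift j to ℕ using j0.le
  have e : ((q * j : ℕ) : ℤ) = x - α u := by push_cast; exact hj.symm
  obtain ⟨-, h4, h5⟩ := D.ok_of hq qp ou iu e
  refine ⟨u, j, ou, iu, e, by exact_mod_cast j0, ?_, h4, h5⟩
  rw [hj] at h1 h2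
  have q1 := hq.one_le
  refine le_min ?_ ?_ <;> zify [q1] <;> refine le_of_mul_le_mul_left ?_ q0 <;> linarith

theorem cn_of {q : ℕ} (hq : q.Prime) : cn p x y k q = true := by
  simp only [cn, Bool.or_eq_true, beq_iff_eq, bne_iff_ne, List.any_eq_true]
  by_cases qp : q = p
  · exact .inl (.inl qp)
  by_cases hg : q ∣ Nat.card G
  · obtain ⟨u, j, -, -, -, j0, jl, -, h⟩ := D.cen hq qp hg
    refine .inr ⟨j, List.mem_range'_1.2 ⟨j0, ?_⟩, h⟩
    have := (Nat.le_div_iff_mul_le (Nat.sub_pos_of_lt hq.one_lt)).2 ((mul_comm _ _).trans_le jl)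
    omega
  · exact .inl (.inr fun h => hg (D.card ▸ Nat.dvd_of_mod_eq_zero h))

theorem op_of {q e m : ℕ} (hq : q.Prime) (hk : k = q ^ e * m) (hm : ¬ q ∣ m)
    (hb : min x y ≤ 4374) : q ^ e ∈ op x y q := by
  simp only [op, List.mem_filter, List.mem_map, List.mem_range, Bool.or_eq_true, beq_iff_eq,
    decide_eq_true_eq]
  rcases Nat.eq_zero_or_pos e with rfl | e0
  · exact ⟨⟨0, by norm_num, rfl⟩, .inl rfl⟩
  have qk : q ∣ k := hk ▸ (dvd_pow_self q e0.ne').mul_right m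
  have qp : q ≠ p := fun h => D.np (h ▸ qk.mul_left _)
  obtain ⟨u, j, -, iu, -, j0, jl, d, -⟩ := D.cen hq qp
    (D.card ▸ (qk.trans (dvd_pow_self k two_ne_zero)).mul_left _)
  obtain ⟨i, hi⟩ := pt_pow hq (x * y)
  have cq := (Nat.Prime.coprime_iff_not_dvd hq).2 iu
  have h1 : q ^ e * q ^ (e + i) ∣ Nat.card (Cx u) := by
    refine (Nat.Coprime.mul_left (cq.pow_left _) (cq.pow_left _)).dvd_of_dvd_mul_right ?_
    rw [(Cx u).card_mul_index, D.card, hk]
    obtain ⟨r, hr⟩ := pt_dvd q (x * y)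
    exact ⟨p * r * m ^ 2, by rw [mul_assoc p, hr, hi]; ring⟩
  have h2 : q ^ (e + i) ∣ q * j := by
    have := h1.trans d
    rw [hk, mul_assoc, Nat.mul_dvd_mul_iff_left (pow_pos hq.pos e)] at this
    exact (((Nat.Prime.coprime_iff_not_dvd hq).2 hm).pow_left _).dvd_of_dvd_mul_left this
  have h3 : q ^ (e + i) ≤ 2 * min x y := by
    refine (Nat.le_of_dvd (Nat.mul_pos hq.pos j0) h2).trans ?_
    have := hq.two_le
    obtain ⟨r, rfl⟩ : ∃ r, q = r + 2 := ⟨q - 2, by omega⟩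
    simp only [show r + 2 - 1 = r + 1 from rfl] at jl
    nlinarith
  refine ⟨⟨e, ?_, rfl⟩, .inr (by rw [hi, ← pow_add]; exact h3)⟩
  by_contra! h
  have : 2 ^ 14 ≤ q ^ (e + i) :=
    (Nat.pow_le_pow_left hq.two_le 14).trans (Nat.pow_le_pow_right hq.pos (by omega))
  omega

theorem ot_of : 0 < w ∧ w ≤ 2 * min x y ∧ IX.ot p x y k w s = true := by
  have p2 : 2 ≠ p := by have := D.p5; omega
  have t2 : 2 ∣ Nat.card G := D.ot ▸ orderOf_dvd_natCard t
  obtain ⟨u, j, ou, iu, e, j0, jl, -, h⟩ := D.cen Nat.prime_two p2 t2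
  have c := D.cj u ou
  have ew : w = 2 * j := by
    have := D.at'; have := D.cls t u c; omega
  have t1 : t ≠ 1 := fun e => by simpa [e] using D.ot
  have tp : ¬ p ∣ orderOf t := fun h => by
    have := Nat.le_of_dvd two_pos (D.ot ▸ h); have := D.p5; omega
  have ci := (Cx t).card_mul_index
  rw [D.ct, D.card] at ci
  have w0 : 0 < w := by omega
  have pw : ¬ p ∣ w := fun h => D.cp t t1 tp (D.ct ▸ h.mul_left k)
  have c1 : w * (Cx t).index = p * (x * y * k) :=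
    Nat.eq_of_mul_eq_mul_left D.kpos (by rw [← mul_assoc, ci]; ring)
  have dw : w ∣ x * y * k := ((Nat.Prime.coprime_iff_not_dvd D.pp).2 pw).symm.dvd_of_dvd_mul_left
    ⟨_, c1.symm⟩
  have ei : p * (x * y * k / w) = (Cx t).index := by
    rw [← Nat.mul_div_assoc p dw, ← c1, Nat.mul_div_cancel_left _ w0]
  refine ⟨w0, by omega, ?_⟩
  simp only [IX.ot, Bool.and_eq_true, beq_iff_eq, decide_eq_true_eq, ei]
  have o := D.om t tp
  have f := D.fa
  rw [D.at'] at o f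
  refine ⟨⟨⟨⟨ew ▸ h, Nat.mod_eq_zero_of_dvd dw⟩, Int.emod_eq_zero_of_dvd o.1⟩,
    Int.emod_eq_zero_of_dvd ?_⟩, f⟩
  convert o.2 using 2
  have := D.hy; omega

theorem mem_of_ch {z : ℕ} (hz : (z : ℤ) = x - s) (h : ch x y z s = true) (hb : min x y ≤ 4374)
    {a b c d : ℕ} (hk : k = 2 ^ a * 3 ^ b * 5 ^ c * 7 ^ d) : (p, x, y, w, k) ∈ LL := by
  have nd : ∀ {q r : ℕ} (n : ℕ), q.Prime → r.Prime → q ≠ r → ¬ q ∣ r ^ n := fun n hq hr e h =>
    e ((Nat.prime_dvd_prime_iff_eq hq hr).1 (hq.dvd_of_dvd_pow h))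
  have n3 : ∀ {q r u v : ℕ} (i j l : ℕ), q.Prime → r.Prime → u.Prime → v.Prime → q ≠ r → q ≠ u →
      q ≠ v → ¬ q ∣ r ^ i * u ^ j * v ^ l := fun i j l hq hr hu hv e1 e2 e3 h => by
    rcases (hq.dvd_mul).1 h with h | h
    · rcases (hq.dvd_mul).1 h with h | h
      · exact nd _ hq hr e1 h
      · exact nd _ hq hu e2 h
    · exact nd _ hq hv e3 h
  have p2 := Nat.prime_two
  have p3 := Nat.prime_three
  have p5 := Nat.prime_five
  have p7 : Nat.Prime 7 := by norm_num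
  have o2 := D.op_of (e := a) (m := 3 ^ b * 5 ^ c * 7 ^ d) p2 (by rw [hk]; ring)
    (n3 _ _ _ p2 p3 p5 p7 (by decide) (by decide) (by decide)) hb
  have o3 := D.op_of (e := b) (m := 2 ^ a * 5 ^ c * 7 ^ d) p3 (by rw [hk]; ring)
    (n3 _ _ _ p3 p2 p5 p7 (by decide) (by decide) (by decide)) hb
  have o5 := D.op_of (e := c) (m := 2 ^ a * 3 ^ b * 7 ^ d) p5 (by rw [hk]; ring)
    (n3 _ _ _ p5 p2 p3 p7 (by decide) (by decide) (by decide)) hb
  have o7 := D.op_of (e := d) (m := 2 ^ a * 3 ^ b * 5 ^ c) p7 (by rw [hk]; ring)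
    (n3 _ _ _ p7 p2 p3 p5 (by decide) (by decide) (by decide)) hb
  have ek : 2 ^ a * (3 ^ b * (5 ^ c * 7 ^ d)) = k := by rw [hk]; ring
  have z0 : 0 < z := by have := D.x2; rcases D.hs with e | e <;> omega
  have pz : p ∣ z := Int.natCast_dvd_natCast.1 (hz ▸ D.px)
  simp only [ch, List.all_eq_true, Bool.or_eq_true, List.any_eq_true, decide_eq_true_eq,
    Bool.and_eq_true, beq_iff_eq, bne_iff_ne, Bool.not_eq_true'] at h
  rcases h p (mem_dvs z0 pz) with (h | ⟨r, hr, h1, h2⟩) | h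
  · have := D.p5; omega
  · have := (Nat.dvd_prime D.pp).1 (Nat.dvd_of_mod_eq_zero h2)
    have := (List.mem_range'_1.1 hr).1
    omega
  have h := h _ o2 _ o3 _ o5 _ o7
  rw [ek, D.cn_of p3, D.cn_of p5, D.cn_of p7] at h
  obtain ⟨w0, wl, ho⟩ := D.ot_of
  obtain ⟨j, rfl⟩ := D.w4
  rcases h with ((h | h) | h) | h
  · exact (h (Int.emod_eq_zero_of_dvd D.pk)).elim
  · exact (D.np (Nat.dvd_of_mod_eq_zero h)).elim
  · simp at h
  · rcases h j (List.mem_range'_1.2 ⟨by omega, by omega⟩) with h | h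
    · rw [ho] at h; simp at h
    · exact h

/-- the sieve -/
theorem num (hs : min x y ∈ SP) {a b c d : ℕ} (hk : k = 2 ^ a * 3 ^ b * 5 ^ c * 7 ^ d) :
    (p, x, y, w, k) ∈ LL := by
  have hb : min x y ≤ 4374 := by
    have : ∀ n ∈ SP, n ≤ 4374 := by decide
    exact this _ hs
  have hy := D.hy
  have x2 := D.x2
  obtain ⟨h1, h2⟩ := chk _ hs
  rcases D.hs with e | e
  · have ey : y = x + 1 := by omega
    have em : min x y = x := by omega
    rw [em] at h1
    refine D.mem_of_ch (z := x - 1) (by omega) ?_ hb hk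
    rw [e, ey]
    exact h1.resolve_left (by omega)
  · have ex : x = y + 1 := by omega
    have em : min x y = y := by omega
    rw [em] at h2
    refine D.mem_of_ch (z := y + 2) (by omega) ?_ hb hk
    rw [e, ex]
    exact h2

end Dt

end IX
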