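import Cfsg.Agent.IX.Stmt

/-! The numerical sieve. -/

set_option autoImplicit false

namespace IX

/-- the `q`-part of a number below `q ^ 70` -/
def pt (q n : ℕ) : ℕ := Nat.gcd n (q ^ 70)

/-- the conditions at a `q`-central element with `x - α = u` -/
def ok (p x y k q u : ℕ) : Bool :=
  (k * u) % pt q (p * x * y * k ^ 2) == 0 && ((x : ℤ) - u) % pt q x == 0 &&
  ((y : ℤ) - u) % pt q y == 0 &&
  decide (2 + 2 * (((x : ℤ) - u) * (x - u)) + (p - 1) * (((y : ℤ) - u) * (y - u)) ≤ 2 * (k * u)) &&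
  decide ((p : ℤ) * k * ((x - u) * (y - u)) ≤ u * (k ^ 2 - 1))

/-- a `q`-central element exists -/
def cn (p x y k q : ℕ) : Bool := q == p || (p * x * y * k ^ 2) % q != 0 ||
  (List.range' 1 (min x y / (q - 1))).any fun j => ok p x y k q (q * j)

/-- the possible `q`-parts of `k` -/
def op (x y q : ℕ) : List ℕ :=
  ((List.range 14).map (q ^ ·)).filter fun a => a == 1 || decide (a * pt q (x * y) ≤ 2 * min x y)

/-- the conditions at the involution -/
def ot (p x y k w : ℕ) (s : ℤ) : Bool :=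
  ok p x y k 2 w && (x * y * k) % w == 0 &&
  ((p * (x * y * k / w) : ℕ) * ((x : ℤ) - w)) % x == 0 &&
  ((p * (x * y * k / w) : ℕ) * ((y : ℤ) - w)) % y == 0 &&
  decide ((p : ℤ) * |(x : ℤ) - w| ≤ x + (p - 1) * s)

/-- the surviving tuples `(p, x, y, w, k)` -/
def LL : List (ℕ × ℕ × ℕ × ℕ × ℕ) := [(5,4,3,4,1), (5,6,7,8,4), (7,8,9,8,1), (5,9,8,8,1),
  (7,15,16,16,1), (17,16,15,16,1), (19,20,21,20,1), (11,21,20,20,1), (11,21,20,20,45),
  (23,24,25,24,1), (13,25,24,24,1), (13,27,28,28,1), (13,27,28,28,25), (29,28,27,28,1),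
  (17,35,36,36,1), (17,35,36,32,120), (37,36,35,36,1), (47,48,49,48,1), (5,49,48,48,1),
  (5,49,48,48,9), (31,63,64,64,1), (5,64,63,64,1), (13,64,63,64,1), (13,64,63,64,25),
  (13,64,63,64,105), (79,80,81,80,1), (41,81,80,80,1), (223,224,225,224,1), (113,225,224,224,1),
  (2399,2400,2401,2400,1), (1201,2401,2400,2400,1)]

/-- the check for one pair of degrees -/
def ch (x y z : ℕ) (s : ℤ) : Bool := (H2.dvs z).all fun p => p < 5 ||
  ((List.range' 2 66).any fun d => d < p && p % d == 0) ||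
  (op x y 2).all fun a => (op x y 3).all fun b => (op x y 5).all fun c => (op x y 7).all fun d =>
    ((a * (b * (c * d)) : ℕ) ^ 2 - 1 : ℤ) % p != 0 || (x * y * (a * (b * (c * d)))) % p == 0 ||
    !(cn p x y (a * (b * (c * d))) 3 && cn p x y (a * (b * (c * d))) 5 &&
      cn p x y (a * (b * (c * d))) 7) ||
    (List.range' 1 (min x y / 2)).all fun j => !ot p x y (a * (b * (c * d))) (4 * j) s ||
      decide ((p, x, y, 4 * j, a * (b * (c * d))) ∈ LL)

theorem chk : ∀ n ∈ SP, (n = 1 ∨ ch n (n + 1) (n - 1) 1 = true) ∧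
    ch (n + 1) n (n + 2) (-1) = true := by decide +kernel

end IX
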