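import Cfsg.Agent.IX.Ev

/-! Counting pairs of involutions. -/

set_option autoImplicit false

namespace IX
open Cfsg H8 H2 Subgroup Finset

variable {G : Type*} [Group G] [Fintype G] {p x y w : ℕ} {s : ℤ} {t : G} {α : G → ℤ}

open Classical in
/-- the involutions `a` with `a * u` an involution -/
noncomputable def nv (u : G) : Finset G := univ.filter fun a => orderOf a = 2 ∧ orderOf (a * u) = 2

theorem nv_inv {u a : G} (h : a ∈ nv u) : orderOf a = 2 ∧ a * u * a⁻¹ = u⁻¹ := by
  classical
  simp only [nv, mem_filter, mem_univ, true_and] at h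
  have h1 := pow_orderOf_eq_one a
  have h2 := pow_orderOf_eq_one (a * u)
  rw [h.1, pow_two] at h1
  rw [h.2, pow_two] at h2
  refine ⟨h.1, ?_⟩
  rw [inv_eq_of_mul_eq_one_right h1, eq_inv_iff_mul_eq_one, mul_assoc _ a u, h2]

theorem nv_le (u : G) : (nv u).card ≤ Nat.card (Cx u) := by
  classical
  rcases (nv u).eq_empty_or_nonempty with e | ⟨a, ha⟩
  · simp [e]
  rw [← Fintype.card_coe, ← Nat.card_eq_fintype_card]
  refine Nat.card_le_card_of_injective (fun b : nv u => (⟨a⁻¹ * b, mem_Cx.2 ?_⟩ : Cx u))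
    fun b c e => Subtype.ext (mul_left_cancel (congrArg Subtype.val e))
  have h1 := (nv_inv ha).2
  have h2 := (nv_inv b.2).2
  generalize (b : G) = c at h2 ⊢
  calc a⁻¹ * c * u = a⁻¹ * (c * u * c⁻¹) * c := by group
    _ = a⁻¹ * (a * u * a⁻¹) * c := by rw [h1, h2]
    _ = _ := by group

open Classical in
theorem sum_nv : ∑ u : G, (nv u).card = (univ.filter fun a : G => orderOf a = 2).card ^ 2 := by
  simp only [nv, card_filter]
  rw [sum_comm, pow_two, sum_mul]
  refine sum_congr rfl fun a _ => ?_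
  split_ifs with h
  · rw [one_mul]
    simp only [h, true_and]
    exact Fintype.sum_equiv (Equiv.mulLeft a) _ _ fun u => rfl
  · simp [h]

theorem nv_conj (u c : G) : (nv (c * u * c⁻¹)).card = (nv u).card := by
  classical
  refine (card_bij (fun a _ => c * a * c⁻¹) (fun a ha => ?_) (fun a _ b _ e => by simpa using e)
    (fun b hb => ⟨c⁻¹ * b * c, ?_, by group⟩)).symm
  · simp only [nv, mem_filter, mem_univ, true_and] at ha ⊢
    rw [conj_mul]
    exact ⟨(MulEquiv.orderOf_eq (MulAut.conj c) a).trans ha.1,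
      (MulEquiv.orderOf_eq (MulAut.conj c) _).trans ha.2⟩
  · simp only [nv, mem_filter, mem_univ, true_and] at hb ⊢
    have h1 := MulEquiv.orderOf_eq (MulAut.conj c⁻¹) b
    have h2 := MulEquiv.orderOf_eq (MulAut.conj c⁻¹) (b * (c * u * c⁻¹))
    rw [MulAut.conj_apply, inv_inv] at h1 h2
    exact ⟨h1.trans hb.1, by rw [← hb.2, ← h2]; congr 1; group⟩

/-- a real element which is not an involution -/
theorem two_mul_dvd {u a : G} (hu : u⁻¹ ≠ u) (ha : a * u * a⁻¹ = u⁻¹) :
    2 * Nat.card (Cx u) ∣ Nat.card G := by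
  let K : Subgroup G :=
    { carrier := {g | g * u * g⁻¹ = u ∨ g * u * g⁻¹ = u⁻¹}
      mul_mem' := fun {g k} hg hk => by
        have e : g * k * u * (g * k)⁻¹ = g * (k * u * k⁻¹) * g⁻¹ := by group
        have f : g * u⁻¹ * g⁻¹ = (g * u * g⁻¹)⁻¹ := by group
        rcases hg with hg | hg <;> rcases hk with hk | hk <;>
          simp only [Set.mem_ofPred_eq, e, hk, f, hg, inv_inv, true_or, or_true]
      one_mem' := .inl (by simp)
      inv_mem' := fun {g} hg => by
        rcases hg with hg | hg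
        · left; conv_lhs => rw [← hg]
          group
        · right
          calc g⁻¹ * u * g⁻¹⁻¹ = g⁻¹ * (g * u * g⁻¹)⁻¹ * g⁻¹⁻¹ := by rw [hg]; group
            _ = _ := by group }
  have m : ∀ g, g ∈ Cx u ↔ g * u * g⁻¹ = u := fun g => by rw [mem_Cx, mul_inv_eq_iff_eq_mul]
  have le : Cx u ≤ K := fun g hg => .inl ((m g).1 hg)
  have h2 : (Cx u).relIndex K = 2 := by
    rw [relIndex, index_eq_two_iff]
    refine ⟨⟨a, .inr ha⟩, fun ⟨b, hb⟩ => ?_⟩
    have e : b * a * u * (b * a)⁻¹ = (b * u * b⁻¹ : G)⁻¹ := by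
      rw [show (b * a * u * (b * a)⁻¹ : G) = b * (a * u * a⁻¹) * b⁻¹ by group, ha]; group
    rw [mem_subgroupOf, mem_subgroupOf, m, m]
    show Xor (b * a * u * (b * a)⁻¹ = u) (b * u * b⁻¹ = u)
    rw [e]
    rcases hb with hb | hb <;> rw [hb]
    · exact .inr ⟨rfl, hu⟩
    · exact .inl ⟨inv_inv u, hu⟩
  rw [← h2, mul_comm, ← Nat.card_congr (subgroupOfEquivOfLe le).toEquiv, relIndex, card_mul_index]
  exact card_subgroup_dvd_card K

theorem Dt.pair (D : Dt G p x y w 1 s t α) (hs : s = -1) (hx : x + 1 = 2 * p) (hw : w = y) :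
    Nat.card (Cx t) < 2 * Nat.card {a : Cx t // a ^ 2 = 1} := by
  classical
  have p5 := D.p5
  obtain ⟨n, rfl⟩ : ∃ n, p = n + 2 := ⟨p - 2, by omega⟩
  obtain rfl : x = 2 * n + 3 := by omega
  obtain rfl : y = 2 * n + 2 := by have := D.hy; omega
  have t1 : t ≠ 1 := fun e => by have := D.ot; simp [e] at this
  have ct : Nat.card (Cx t) = 2 * n + 2 := by rw [D.ct, hw, one_mul]
  have t0 : α t = 1 := by rw [D.at', hw]; push_cast; ring
  have op : ¬ 2 ∣ n + 2 := fun e => by
    have := (Nat.prime_dvd_prime_iff_eq Nat.prime_two D.pp).1 e; omega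
  have hI : (univ.filter fun a : G => orderOf a = 2).card = (n + 2) * (2 * n + 3) := by
    have h4 := card_centralizer_mul_card_conj t
    rw [Nat.card_eq_fintype_card (α := {y : G // IsConj t y}), Fintype.card_subtype, D.card,
      show Nat.card (centralizer ({t} : Set G)) = _ from ct,
      filter_congr (q := fun a => orderOf a = 2) fun a _ => ⟨fun e => by
        obtain ⟨c, rfl⟩ := isConj_iff.1 e
        exact (MulEquiv.orderOf_eq (MulAut.conj c) t).trans D.ot, D.cj a⟩] at h4
    exact Nat.eq_of_mul_eq_mul_left (by omega : 0 < 2 * n + 2) (by rw [h4]; ring)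
  have h1 : ∀ u : G, ((nv u).card : ℤ) ≤ (n + 1) +
      (if u = 1 then (n + 2) * (2 * n + 3) - (n + 1) else 0 : ℤ) +
      (if n + 2 ∣ orderOf u then 1 else 0) + (if α u = 0 then n + 2 else 0 : ℤ) +
      (if orderOf u = 2 then ((nv t).card - (n + 1) : ℤ) else 0) := fun u => by
    by_cases u1 : u = 1
    · have : (nv (1 : G)).card = (n + 2) * (2 * n + 3) := by rw [← hI]; simp [nv]
      rw [u1, this, if_pos rfl, D.one, orderOf_one, if_neg (by rw [Nat.dvd_one]; omega),
        if_neg (by omega), if_neg (by omega)]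
      push_cast; omega
    rw [if_neg u1]
    by_cases up : n + 2 ∣ orderOf u
    · have := (card_le_card (s := nv u) fun a ha => mem_filter.2 ⟨mem_univ _, nv_inv ha⟩).trans
        (D.inv u up)
      rw [if_pos up, D.sing u up, if_neg (by omega), if_neg fun e => by
        have := Nat.le_of_dvd two_pos (e ▸ up); omega]
      omega
    rw [if_neg up]
    by_cases u2 : orderOf u = 2
    · obtain ⟨c, rfl⟩ := isConj_iff.1 (D.cj u u2)
      rw [if_pos u2, nv_conj, ← D.cls t _ (isConj_iff.2 ⟨c, rfl⟩), t0, if_neg one_ne_zero]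
      omega
    rw [if_neg u2]
    have d := D.dv u u1 up
    have l := nv_le u
    rcases D.zero_or u1 up with e | e
    · rw [e, Nat.cast_one, one_mul, sub_zero] at d
      have := Nat.le_of_dvd (by omega) (Int.natCast_dvd_natCast.1 d)
      rw [if_pos e]; omega
    rw [if_neg (by omega)]
    rcases (nv u).eq_empty_or_nonempty with e' | ⟨a, ha⟩
    · rw [e', card_empty]; omega
    obtain ⟨m, hm⟩ : Nat.card (Cx u) ∣ 2 * n + 2 :=
      Int.natCast_dvd_natCast.1 (by convert d using 1; rw [e, hs]; push_cast; ring)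
    have h2 := two_mul_dvd (fun e => u2 (orderOf_eq_prime (by
      rw [pow_two]; nth_rw 1 [← e]; exact inv_mul_cancel u) u1)) (nv_inv ha).2
    have m1 : m ≠ 1 := by
      rintro rfl
      rw [← mul_one (Nat.card (Cx u)), ← hm, D.card, one_pow, mul_one] at h2
      rcases (Nat.Prime.dvd_mul Nat.prime_two).1 (Nat.dvd_of_mul_dvd_mul_right (by omega) h2)
        with c | c <;> omega
    have m0 : m ≠ 0 := by rintro rfl; omega
    have : Nat.card (Cx u) * 2 ≤ Nat.card (Cx u) * m := Nat.mul_le_mul_left _ (by omega)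
    omega
  have h2 := sum_le_sum fun u (_ : u ∈ (univ : Finset G)) => h1 u
  rw [← Nat.cast_sum, sum_nv, hI] at h2
  simp only [sum_add_distrib, sum_ite_eq', mem_univ, if_true, ← sum_filter, sum_const, card_univ,
    nsmul_eq_mul, hI, ← Nat.card_eq_fintype_card, D.card] at h2
  have c1 := D.cnt
  have c2 := D.card_zero
  rw [show n + 2 - 1 = n + 1 from rfl] at c1
  have c3 : (univ.filter fun u : G => n + 2 ∣ orderOf u).card =
      (n + 1) * (2 * n + 3) * (n + 1) := by nlinarith
  have c4 : (univ.filter fun u : G => α u = 0).card = (2 * n + 2) * (2 * n + 4) := by nlinarith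
  rw [c3, c4] at h2
  push_cast at h2
  have h3 : (n + 1 : ℤ) ≤ (nv t).card := by
    by_contra c
    have : ((nv t).card - (n + 1) : ℤ) ≤ -1 := by omega
    nlinarith
  have h4 : (insert 1 (nv t)).card ≤ Nat.card {a : Cx t // a ^ 2 = 1} := by
    rw [← Fintype.card_coe, ← Nat.card_eq_fintype_card]
    have it : t⁻¹ = t := inv_eq_of_mul_eq_one_right (by rw [← pow_two, ← D.ot, pow_orderOf_eq_one])
    have k : ∀ a ∈ insert 1 (nv t), a ∈ Cx t ∧ a ^ 2 = 1 := fun a ha => by
      rcases mem_insert.1 ha with rfl | ha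
      · simp
      · exact ⟨mem_Cx.2 (by rw [← mul_inv_eq_iff_eq_mul, (nv_inv ha).2, it]),
          by rw [← (nv_inv ha).1, pow_orderOf_eq_one]⟩
    exact Nat.card_le_card_of_injective (fun a : (insert 1 (nv t) : Finset G) =>
      (⟨⟨a, (k a a.2).1⟩, Subtype.ext (k a a.2).2⟩ : {a : Cx t // a ^ 2 = 1}))
      fun a b e => Subtype.ext (congrArg (fun c => (c.1 : G)) e)
  rw [card_insert_of_notMem fun e => by simpa using (nv_inv e).1] at h4
  omega

end IX
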